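/-
Finite p-groups of maximal class: the upper central series.

Main results (namespace `Cfsg.Agent.MaxClass`):
* `upperCentralSeries_lt_succ` : below the top the series grows;
* `index_upperCentralSeries_ne_prime` : the last step is not of prime index;
* `card_upperCentralSeries` : `|G| = p^n`, `n ≥ 3`, class `≥ n - 1` give `|Z_i| = p^i` for `i ≤ n - 2`;
* `not_top_of_lowerCentralSeries` : translation from a subgroup's lower central series.
-/
import Cfsg.Agent.Lib.PGroup.Basic

set_option autoImplicit false
open scoped commutatorElement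

namespace Cfsg.Agent.MaxClass

open Subgroup

variable {G : Type*} [Group G] [Finite G] {p : ℕ} [hp : Fact p.Prime]

theorem not_top_of_lowerCentralSeries {Ω : Type*} [Group Ω] {S : Subgroup Ω} {k : ℕ}
    (h : Subgroup.lowerCentralSeries S k ≠ ⊥) : Subgroup.upperCentralSeries S k ≠ ⊤ := by
  intro hk
  apply h
  rw [← top_subtype_lowerCentralSeries, Subgroup.lowerCentralSeries_eq_bot_iff_upperCentralSeries_eq_top.mpr hk,
    Subgroup.map_bot]

omit hp in
theorem upperCentralSeries_lt_succ [hp : Fact p.Prime] (hG : IsPGroup p G) {i : ℕ}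
    (h : Subgroup.upperCentralSeries G i ≠ ⊤) : Subgroup.upperCentralSeries G i < Subgroup.upperCentralSeries G (i + 1) := by
  refine lt_of_le_of_ne (Subgroup.upperCentralSeries_mono G (Nat.le_succ i)) fun he => h ?_
  have hstep : Subgroup.upperCentralSeries G (i + 1) =
      (center (G ⧸ Subgroup.upperCentralSeries G i)).comap (QuotientGroup.mk' _) :=
    Subgroup.upperCentralSeriesStep_eq_comap_center (Subgroup.upperCentralSeries G i)
  by_contra htop
  have : Nontrivial (G ⧸ Subgroup.upperCentralSeries G i) := QuotientGroup.nontrivial_iff.mpr htop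
  have hc := (hG.to_quotient (Subgroup.upperCentralSeries G i)).center_nontrivial
  obtain ⟨⟨z, hz⟩, hz1⟩ := exists_ne (1 : center (G ⧸ Subgroup.upperCentralSeries G i))
  obtain ⟨g, rfl⟩ := QuotientGroup.mk'_surjective _ z
  have hg : g ∈ Subgroup.upperCentralSeries G (i + 1) := hstep.symm.le hz
  rw [← he] at hg
  exact hz1 (Subtype.ext ((QuotientGroup.eq_one_iff g).mpr hg))

omit [Finite G] in
theorem index_upperCentralSeries_ne_prime {m : ℕ} (hm : 1 ≤ m) (h1 : Subgroup.upperCentralSeries G (m + 1) = ⊤)
    (h : Subgroup.upperCentralSeries G m ≠ ⊤) : (Subgroup.upperCentralSeries G m).index ≠ p := by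
  obtain ⟨k, rfl⟩ := Nat.exists_eq_succ_of_ne_zero (by omega : m ≠ 0)
  intro hidx
  apply h
  have hcyc : IsCyclic (G ⧸ Subgroup.upperCentralSeries G (k + 1)) :=
    isCyclic_of_prime_card (p := p) (by rw [← index_eq_card, hidx])
  let f : G ⧸ Subgroup.upperCentralSeries G k →* G ⧸ Subgroup.upperCentralSeries G (k + 1) :=
    QuotientGroup.map _ _ (MonoidHom.id G) (Subgroup.upperCentralSeries_mono G (Nat.le_succ k))
  have hker : f.ker ≤ center (G ⧸ Subgroup.upperCentralSeries G k) := by
    intro x hx
    obtain ⟨g, rfl⟩ := QuotientGroup.mk'_surjective _ x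
    have hg : g ∈ Subgroup.upperCentralSeries G (k + 1) := (QuotientGroup.eq_one_iff g).mp hx
    rw [mem_center_iff]
    intro y
    obtain ⟨b, rfl⟩ := QuotientGroup.mk'_surjective _ y
    refine Eq.symm (commutatorElement_eq_one_iff_mul_comm.mp ?_)
    rw [← map_commutatorElement]
    exact (QuotientGroup.eq_one_iff _).mpr (Subgroup.mem_upperCentralSeries_succ_iff.mp hg b)
  have hcomm := commutative_of_cyclic_center_quotient f hker
  rw [eq_top_iff]
  intro g _
  rw [Subgroup.mem_upperCentralSeries_succ_iff]
  intro b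
  rw [← QuotientGroup.eq_one_iff]
  show (QuotientGroup.mk' _) ⁅g, b⁆ = 1
  rw [map_commutatorElement, commutatorElement_eq_one_iff_mul_comm]
  exact hcomm _ _

theorem card_upperCentralSeries (hG : IsPGroup p G) {n : ℕ} (hn : Nat.card G = p ^ n) (h3 : 3 ≤ n)
    (hc : Subgroup.upperCentralSeries G (n - 2) ≠ ⊤) {i : ℕ} (hi : i ≤ n - 2) :
    Nat.card (Subgroup.upperCentralSeries G i) = p ^ i := by
  have hne : ∀ j ≤ n - 2, Subgroup.upperCentralSeries G j ≠ ⊤ := fun j hj h =>
    hc (top_le_iff.mp (h ▸ Subgroup.upperCentralSeries_mono G hj))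
  have hstep : ∀ j < n - 2, p * Nat.card (Subgroup.upperCentralSeries G j) ≤ Nat.card (Subgroup.upperCentralSeries G (j + 1)) :=
    fun j hj => PGroup.mul_card_le_of_lt hG (upperCentralSeries_lt_succ hG (hne j hj.le))
  have hle : ∀ j k, j + k ≤ n - 2 →
      p ^ k * Nat.card (Subgroup.upperCentralSeries G j) ≤ Nat.card (Subgroup.upperCentralSeries G (j + k)) := by
    intro j k
    induction k with
    | zero => intro _; simp
    | succ k ih =>
      intro hjk
      calc p ^ (k + 1) * Nat.card (Subgroup.upperCentralSeries G j) = p * (p ^ k * Nat.card (Subgroup.upperCentralSeries G j)) := by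
            rw [pow_succ']; ring
        _ ≤ p * Nat.card (Subgroup.upperCentralSeries G (j + k)) := Nat.mul_le_mul_left _ (ih (by omega))
        _ ≤ _ := hstep _ (by omega)
  have h0 : Nat.card (Subgroup.upperCentralSeries G 0) = 1 := by rw [Subgroup.upperCentralSeries_zero]; exact card_bot
  -- the last term has order exactly `p ^ (n - 2)`
  have htop : Nat.card (Subgroup.upperCentralSeries G (n - 2)) = p ^ (n - 2) := by
    obtain ⟨a, ha⟩ := PGroup.exists_subgroup_card_eq_pow hG (Subgroup.upperCentralSeries G (n - 2))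
    have hidx := (Subgroup.upperCentralSeries G (n - 2)).card_mul_index
    rw [ha, hn] at hidx
    obtain ⟨b, -, hb⟩ := (Nat.dvd_prime_pow hp.out).mp
      (hn ▸ (Subgroup.upperCentralSeries G (n - 2)).index_dvd_card)
    rw [hb, ← pow_add] at hidx
    have hab : a + b = n := Nat.pow_right_injective hp.out.two_le hidx
    have hlow := hle 0 (n - 2) (by omega)
    rw [h0, mul_one, zero_add, ha] at hlow
    have han : n - 2 ≤ a := (Nat.pow_le_pow_iff_right hp.out.one_lt).mp hlow
    have hb0 : b ≠ 0 := fun h => hc (index_eq_one.mp (by rw [hb, h, pow_zero]))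
    have hb1 : b ≠ 1 := fun h => by
      have hidx : (Subgroup.upperCentralSeries G (n - 2)).index = p := by rw [hb, h, pow_one]
      refine index_upperCentralSeries_ne_prime (by omega) ?_ hc hidx
      rw [eq_top_iff]
      intro g _
      rw [Subgroup.mem_upperCentralSeries_succ_iff]
      exact fun y => PGroup.commutator_le_of_index_eq hidx (commutator_mem_commutator (mem_top g) (mem_top y))
    rw [ha, show a = n - 2 by omega]
  obtain ⟨a, ha⟩ := PGroup.exists_subgroup_card_eq_pow hG (Subgroup.upperCentralSeries G i)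
  have h1 := hle 0 i (by omega)
  rw [h0, mul_one, zero_add, ha] at h1
  have h2 := hle i (n - 2 - i) (by omega)
  rw [ha, show i + (n - 2 - i) = n - 2 by omega, htop, ← pow_add] at h2
  have h1' := (Nat.pow_le_pow_iff_right hp.out.one_lt).mp h1
  have h2' := (Nat.pow_le_pow_iff_right hp.out.one_lt).mp h2
  rw [ha, show a = i by omega]

end Cfsg.Agent.MaxClass
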