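import Cfsg.Agent.Lib.MaxClass.Power
import Cfsg.Agent.Lib.MaxClass.Basic

/-!
# Two-step centralizers in p-groups of maximal class

`Mc X p n` : `|X| = p ^ n` of class `n - 1`;  `twoStep X i` : the centralizer of `Lᵢ/Lᵢ₊₂`.
* `Mc.twoStep_periodic` : `twoStep X i = twoStep X j` for some `j ≤ p - 1`;
* `Mc.exists_good` : some element has a centralizer of order `p ^ 2`.
-/

set_option autoImplicit false
set_option linter.unusedSectionVars false
set_option linter.style.haveILetI false

open Subgroup
open scoped commutatorElement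

universe u

namespace Cfsg.Agent.MaxClassPower

open PearlRank

/-- A group of order `p ^ n` and maximal class. -/
structure Mc (X : Type u) [Group X] (p n : ℕ) : Prop where
  card : Nat.card X = p ^ n
  three_le : 3 ≤ n
  cls : Group.nilpotencyClass X = n - 1

/-- The two-step centralizer. -/
def twoStep (X : Type u) [Group X] (i : ℕ) : Subgroup X :=
  (centralizer (((L X i).map (QuotientGroup.mk' (L X (i + 2)))) : Set (X ⧸ L X (i + 2)))).comap
    (QuotientGroup.mk' (L X (i + 2)))

variable {X : Type u} [Group X]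

theorem mem_twoStep {i : ℕ} {g : X} : g ∈ twoStep X i ↔ ∀ u ∈ L X i, ⁅g, u⁆ ∈ L X (i + 2) := by
  rw [twoStep, mem_comap, mem_centralizer_iff]
  constructor
  · intro h u hu
    rw [← QuotientGroup.eq_one_iff]
    change QuotientGroup.mk' (L X (i + 2)) ⁅g, u⁆ = 1
    rw [map_commutatorElement, commutatorElement_eq_one_iff_mul_comm]
    exact (h _ (mem_map_of_mem _ hu)).symm
  · rintro h _ ⟨u, hu, rfl⟩
    symm
    rw [← commutatorElement_eq_one_iff_mul_comm, ← map_commutatorElement]
    exact (QuotientGroup.eq_one_iff _).mpr (h u hu)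

theorem L_one_le_twoStep (i : ℕ) : L X 1 ≤ twoStep X i := by
  intro g hg
  rw [mem_twoStep]
  intro u hu
  have h := (PolySeq.isFiltration_lowerCentralSeries (G := X)).comm 2 (i + 1)
    (commutator_mem_commutator (g₁ := g) (g₂ := u) (show g ∈ PolySeq.lcsFil X 2 from hg)
      (show u ∈ PolySeq.lcsFil X (i + 1) by simpa [PolySeq.lcsFil] using hu))
  simpa [PolySeq.lcsFil, show 2 + (i + 1) - 1 = i + 2 by omega] using h

theorem map_L (k i : ℕ) : (L X i).map (QuotientGroup.mk' (L X k)) = L (X ⧸ L X k) i := by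
  show ((⊤ : Subgroup X).lowerCentralSeries i).map _ = (⊤ : Subgroup (X ⧸ L X k)).lowerCentralSeries i
  rw [Subgroup.map_lowerCentralSeries, map_top_of_surjective _ (QuotientGroup.mk'_surjective _)]

variable [Finite X] {p n : ℕ} [hp : Fact p.Prime]

namespace Mc

variable (c : Mc X p n)

include c

theorem pGroup : IsPGroup p X := IsPGroup.of_card c.card

theorem L_bot {i : ℕ} (hi : n - 1 ≤ i) : L X i = ⊥ := by
  haveI := c.pGroup.isNilpotent
  exact Subgroup.lowerCentralSeries_eq_bot_iff_nilpotencyClass_le.mpr (c.cls.le.trans hi)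

theorem card_L {i : ℕ} (hi : 1 ≤ i) : Nat.card (L X i) = p ^ (n - 1 - i) := by
  rcases le_or_gt i (n - 1) with h | h
  · exact PGroup.card_lcs_of_maximal_class c.three_le c.card c.cls hi h
  · rw [c.L_bot h.le, card_bot, show n - 1 - i = 0 by omega, pow_zero]

theorem L_lt {i : ℕ} (hi : 1 ≤ i) (hin : i < n - 1) : ¬ L X i ≤ L X (i + 1) := fun h => by
  have := Subgroup.card_le_of_le h
  rw [c.card_L hi, c.card_L (by omega : 1 ≤ i + 1)] at this
  have := (Nat.pow_le_pow_iff_right hp.out.one_lt).mp this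
  omega

theorem index_L {i : ℕ} (hi : 1 ≤ i) (hin : i ≤ n - 1) : (L X i).index = p ^ (i + 1) := by
  have h := (L X i).card_mul_index
  rw [c.card_L hi, c.card] at h
  refine Nat.eq_of_mul_eq_mul_left (pow_pos hp.out.pos (n - 1 - i)) ?_
  rw [h, ← pow_add]
  congr 1
  have := c.three_le
  omega

theorem gen_L {i : ℕ} (hi : 1 ≤ i) {u : X} (hu : u ∈ L X i) (hu' : u ∉ L X (i + 1)) :
    L X (i + 1) ⊔ zpowers u = L X i := by
  refine PGroup.eq_of_le_of_card_le (sup_le (Subgroup.lowerCentralSeries_antitone _ (Nat.le_succ i))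
    (zpowers_le.mpr hu)) ?_
  have := PGroup.mul_card_le_of_lt c.pGroup
    (left_lt_sup.2 fun h => hu' (h (mem_zpowers u)) : L X (i + 1) < L X (i + 1) ⊔ zpowers u)
  rw [c.card_L (by omega : 1 ≤ i + 1), ← pow_succ'] at this
  refine le_trans ?_ this
  rw [c.card_L hi]
  exact Nat.pow_le_pow_right hp.out.pos (by omega)

theorem mem_twoStep_of {i : ℕ} (hi : 1 ≤ i) {g u : X} (hu : u ∈ L X i) (hu' : u ∉ L X (i + 1))
    (h : ⁅g, u⁆ ∈ L X (i + 2)) : g ∈ twoStep X i := by
  rw [twoStep, mem_comap]
  have hle : L X i ≤ (centralizer {QuotientGroup.mk' (L X (i + 2)) g}).comap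
      (QuotientGroup.mk' (L X (i + 2))) := by
    rw [← c.gen_L hi hu hu']
    refine sup_le (fun y hy => ?_) (zpowers_le.mpr ?_)
    · rw [mem_comap, mem_centralizer_singleton_iff, ← commutatorElement_eq_one_iff_mul_comm,
        ← map_commutatorElement]
      exact (QuotientGroup.eq_one_iff _).2 (commutator_mem_commutator hy (mem_top g))
    · rw [mem_comap, mem_centralizer_singleton_iff]
      symm
      rw [← commutatorElement_eq_one_iff_mul_comm, ← map_commutatorElement]
      exact (QuotientGroup.eq_one_iff _).2 h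
  rw [mem_centralizer_iff]
  rintro _ ⟨y, hy, rfl⟩
  exact mem_centralizer_singleton_iff.mp (hle hy)

theorem twoStep_ne_top {i : ℕ} (hi : 1 ≤ i) (hin : i ≤ n - 3) : twoStep X i ≠ ⊤ := by
  intro h
  have hn := c.three_le
  refine c.L_lt (by omega : 1 ≤ i + 1) (by omega) ?_
  show L X (i + 1) ≤ L X (i + 2)
  rw [L, Subgroup.lowerCentralSeries_succ, commutator_le]
  intro u hu g _
  have := mem_twoStep.mp (h ▸ mem_top g : g ∈ twoStep X i) u hu
  rw [← commutatorElement_inv] at this
  exact (L X (i + 2)).inv_mem_iff.mp this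

theorem twoStep_index_le {i : ℕ} (hi : 1 ≤ i) (hin : i ≤ n - 3) : (twoStep X i).index ≤ p := by
  classical
  have hn := c.three_le
  obtain ⟨u, hu, hu'⟩ := SetLike.not_le_iff_exists.mp (c.L_lt hi (by omega))
  have hcm : ∀ g : X, ⁅g, u⁆ ∈ L X (i + 1) := fun g => by
    rw [← commutatorElement_inv]
    exact inv_mem (commutator_mem_commutator hu (mem_top g))
  let π := QuotientGroup.mk' (L X (i + 2))
  let f : X →* (L X (i + 1)).map π :=
    { toFun := fun g => ⟨π ⁅g, u⁆, mem_map_of_mem _ (hcm g)⟩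
      map_one' := Subtype.ext (by show π ⁅(1 : X), u⁆ = 1; rw [commutatorElement_one_left, map_one])
      map_mul' := fun a b => Subtype.ext (by
        show π ⁅a * b, u⁆ = π ⁅a, u⁆ * π ⁅b, u⁆
        have e : ⁅a * b, u⁆ = a * ⁅b, u⁆ * a⁻¹ * ⁅a, u⁆ := by
          simp only [commutatorElement_def]; group
        have hc : ∀ w ∈ L X (i + 1), π (a * w * a⁻¹) = π w := by
          intro w hw
          have : π ⁅a, w⁆ = 1 := (QuotientGroup.eq_one_iff _).2 (by
            rw [← commutatorElement_inv]
            exact inv_mem (commutator_mem_commutator hw (mem_top a)))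
          rw [commutatorElement_def, map_mul, map_inv, mul_inv_eq_one] at this
          exact this
        rw [e, map_mul, hc _ (hcm b), ← map_mul, ← map_mul]
        refine QuotientGroup.eq.2 ?_
        show (⁅b, u⁆ * ⁅a, u⁆)⁻¹ * (⁅a, u⁆ * ⁅b, u⁆) ∈ L X (i + 2)
        have e2 : (⁅b, u⁆ * ⁅a, u⁆)⁻¹ * (⁅a, u⁆ * ⁅b, u⁆) = ⁅⁅a, u⁆⁻¹, ⁅b, u⁆⁻¹⁆ := by
          simp only [commutatorElement_def]; group
        rw [e2]
        exact commutator_mem_commutator (inv_mem (hcm a)) (mem_top _)) }
  have hker : f.ker ≤ twoStep X i := by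
    intro g hg
    exact c.mem_twoStep_of hi hu hu'
      ((QuotientGroup.eq_one_iff _).1 (congrArg Subtype.val (MonoidHom.mem_ker.mp hg)))
  refine (Nat.le_of_dvd (Nat.pos_of_ne_zero index_ne_zero_of_finite) (index_dvd_of_le hker)).trans ?_
  rw [index_ker]
  refine (Subgroup.card_le_card_group _).trans ?_
  have h := Solvable.card_eq_card_map_mul π (L X (i + 1))
  rw [QuotientGroup.ker_mk', inf_of_le_right (Subgroup.lowerCentralSeries_antitone _ (Nat.le_succ (i + 1))),
    c.card_L (by omega : 1 ≤ i + 1), c.card_L (by omega : 1 ≤ i + 2),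
    show n - 1 - (i + 1) = n - 1 - (i + 2) + 1 by omega, pow_succ'] at h
  exact (Nat.eq_of_mul_eq_mul_right (pow_pos hp.out.pos _) h).ge

theorem quot {k : ℕ} (hk : 2 ≤ k) (hkn : k ≤ n - 1) : Mc (X ⧸ L X k) p (k + 1) := by
  have hcard : Nat.card (X ⧸ L X k) = p ^ (k + 1) := by
    rw [← index_eq_card]; exact c.index_L (by omega) hkn
  refine ⟨hcard, by omega, ?_⟩
  haveI := (IsPGroup.of_card hcard).isNilpotent
  apply le_antisymm
  · refine Subgroup.lowerCentralSeries_eq_bot_iff_nilpotencyClass_le.mp ?_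
    show L (X ⧸ L X k) k = ⊥
    rw [← map_L, Subgroup.map_eq_bot_iff, QuotientGroup.ker_mk']
  · by_contra hlt
    have h : L (X ⧸ L X k) (k - 1) = ⊥ :=
      Subgroup.lowerCentralSeries_eq_bot_iff_nilpotencyClass_le.mpr (by omega)
    rw [← map_L, Subgroup.map_eq_bot_iff, QuotientGroup.ker_mk'] at h
    refine c.L_lt (by omega : 1 ≤ k - 1) (by omega) ?_
    rwa [show k - 1 + 1 = k by omega]

theorem center_le : center X ≤ L X 1 := by
  have hn := c.three_le
  haveI := c.pGroup.isNilpotent
  have hc : Subgroup.upperCentralSeries X (n - 2) ≠ ⊤ := fun h => by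
    have h1 : L X (n - 2) = ⊥ :=
      Subgroup.lowerCentralSeries_eq_bot_iff_upperCentralSeries_eq_top.mpr h
    have h2 := c.card_L (by omega : 1 ≤ n - 2)
    rw [h1, card_bot, show n - 1 - (n - 2) = 1 by omega, pow_one] at h2
    exact hp.out.ne_one h2.symm
  have hZ := MaxClass.card_upperCentralSeries c.pGroup c.card hn hc (i := 1) (by omega)
  rw [Subgroup.upperCentralSeries_one, pow_one] at hZ
  have hle : L X (n - 2) ≤ center X := by
    intro u hu
    rw [mem_center_iff]
    intro g
    refine (commutatorElement_eq_one_iff_mul_comm.mp ?_).symm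
    have h1 : ⁅u, g⁆ ∈ L X (n - 2 + 1) := commutator_mem_commutator hu (mem_top g)
    rwa [c.L_bot (by omega), mem_bot] at h1
  have heq : L X (n - 2) = center X := Subgroup.eq_of_le_of_card_ge hle (by
    rw [hZ, c.card_L (by omega), show n - 1 - (n - 2) = 1 by omega, pow_one])
  exact heq ▸ Subgroup.lowerCentralSeries_antitone _ (by omega)

/-- An element outside all two-step centralizers and `L₁` has centralizer of order `p ^ 2`. -/
theorem card_centralizer {g : X} (hg : g ∉ L X 1)
    (h : ∀ i, 1 ≤ i → i ≤ n - 3 → g ∉ twoStep X i) : Nat.card (centralizer ({g} : Set X)) = p ^ 2 := by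
  have hn := c.three_le
  set C := centralizer ({g} : Set X) with hC
  have hgC : g ∈ C := mem_centralizer_singleton_iff.mpr rfl
  have hCne : C ≠ ⊤ := fun htop => hg (c.center_le (by
    rw [mem_center_iff]
    intro y
    exact (mem_centralizer_singleton_iff.mp (htop ▸ mem_top y : y ∈ C))))
  have hinf : ∀ d i, n - 2 ≤ i + d → 1 ≤ i → C ⊓ L X i ≤ L X (n - 2) := by
    intro d
    induction d with
    | zero => exact fun i hi h1 => inf_le_right.trans (Subgroup.lowerCentralSeries_antitone _ (by omega))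
    | succ d ih =>
      intro i hi h1 x hx
      by_cases hin : n - 2 ≤ i
      · exact Subgroup.lowerCentralSeries_antitone _ hin hx.2
      by_cases hx' : x ∈ L X (i + 1)
      · exact ih (i + 1) (by omega) (by omega) ⟨hx.1, hx'⟩
      · exfalso
        refine h i h1 (by omega) (c.mem_twoStep_of h1 hx.2 hx' ?_)
        have : ⁅g, x⁆ = 1 := commutatorElement_eq_one_iff_mul_comm.mpr
          (mem_centralizer_singleton_iff.mp hx.1).symm
        rw [this]
        exact one_mem _
  apply le_antisymm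
  · have h1 := Solvable.card_eq_card_map_mul (QuotientGroup.mk' (L X 1)) C
    rw [QuotientGroup.ker_mk'] at h1
    have h2 : Nat.card ↥(C ⊓ L X 1) ≤ p := by
      refine (Subgroup.card_le_of_le (hinf n 1 (by omega) le_rfl)).trans ?_
      rw [c.card_L (by omega), show n - 1 - (n - 2) = 1 by omega, pow_one]
    have h3 : Nat.card (C.map (QuotientGroup.mk' (L X 1))) ≤ p := by
      have hQ : Nat.card (X ⧸ L X 1) = p ^ 2 := by
        rw [← index_eq_card]; exact c.index_L le_rfl (by omega)
      obtain ⟨j, hj2, hj⟩ := (Nat.dvd_prime_pow hp.out).mp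
        (hQ ▸ Subgroup.card_subgroup_dvd_card (C.map (QuotientGroup.mk' (L X 1))))
      rw [hj]
      rcases Nat.lt_or_ge j 2 with hlt | hge
      · exact (Nat.pow_le_pow_right hp.out.pos (by omega : j ≤ 1)).trans (pow_one p).le
      · exfalso
        have htop : C.map (QuotientGroup.mk' (L X 1)) = ⊤ :=
          Subgroup.eq_top_of_card_eq _ (by rw [hj, hQ, show j = 2 by omega])
        refine hCne (PGroup.eq_top_of_sup_frattini ?_)
        have h4 := congrArg (Subgroup.comap (QuotientGroup.mk' (L X 1))) htop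
        rw [comap_map_eq, QuotientGroup.ker_mk', comap_top] at h4
        refine top_le_iff.mp (h4.ge.trans (sup_le_sup_left ?_ _))
        rw [L, Subgroup.top_lowerCentralSeries_one]
        exact PGroup.commutator_le_frattini c.pGroup
    rw [h1, sq]
    exact Nat.mul_le_mul h3 h2
  · have hZ : center X < C := lt_of_le_of_ne (center_le_centralizer _) fun he => hg (c.center_le (he ▸ hgC))
    have h1 := PGroup.mul_card_le_of_lt c.pGroup hZ
    haveI : Nontrivial X := by
      rw [← Finite.one_lt_card_iff_nontrivial, c.card]; exact Nat.one_lt_pow (by omega) hp.out.one_lt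
    obtain ⟨j, hj⟩ := IsPGroup.iff_card.mp (c.pGroup.to_subgroup (center X))
    have hj0 : j ≠ 0 := by
      intro h0
      have := IsPGroup.center_nontrivial c.pGroup
      rw [← Finite.one_lt_card_iff_nontrivial, hj, h0, pow_zero] at this
      exact lt_irrefl _ this
    rw [hj] at h1
    refine le_trans ?_ h1
    rw [← pow_succ']
    exact Nat.pow_le_pow_right hp.out.pos (by omega)

theorem exists_avoid (T : Finset ℕ) (hT : T.card ≤ p)
    (hmem : ∀ i ∈ T, twoStep X i ≠ ⊤) : ∃ g : X, g ∉ L X 1 ∧ ∀ i ∈ T, g ∉ twoStep X i := by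
  classical
  haveI := Fintype.ofFinite X
  by_contra hno
  push Not at hno
  let A : Finset X := Finset.univ.filter (fun g => g ∈ L X 1)
  let B : ℕ → Finset X := fun i => (Finset.univ.filter (fun g => g ∈ twoStep X i)) \ A
  have hcardH : ∀ H : Subgroup X, (Finset.univ.filter (fun g => g ∈ H)).card = Nat.card H := fun H => by
    rw [Nat.card_eq_fintype_card, Fintype.card_subtype]
  have hA : A.card = Nat.card (L X 1) := hcardH _
  have hcov : (Finset.univ : Finset X) ⊆ A ∪ T.biUnion B := by
    intro g _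
    by_cases hg : g ∈ L X 1
    · exact Finset.mem_union_left _ (Finset.mem_filter.mpr ⟨Finset.mem_univ _, hg⟩)
    · obtain ⟨i, hi, hgi⟩ := hno g hg
      exact Finset.mem_union_right _ (Finset.mem_biUnion.mpr ⟨i, hi, Finset.mem_sdiff.mpr
        ⟨Finset.mem_filter.mpr ⟨Finset.mem_univ _, hgi⟩, fun h => hg (Finset.mem_filter.mp h).2⟩⟩)
  have h1 := (Finset.card_le_card hcov).trans ((Finset.card_union_le _ _).trans
    (Nat.add_le_add_left Finset.card_biUnion_le _))
  have hn := c.three_le
  have h2 : ∀ i ∈ T, (B i).card + Nat.card (L X 1) ≤ p ^ (n - 1) := by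
    intro i hi
    have hsub : A ⊆ Finset.univ.filter (fun g => g ∈ twoStep X i) := by
      intro g hg
      simp only [A, Finset.mem_filter, Finset.mem_univ, true_and] at hg ⊢
      exact L_one_le_twoStep i hg
    simp only [B]
    rw [Finset.card_sdiff_of_subset hsub, hcardH, hA]
    have hle : Nat.card (twoStep X i) ≤ p ^ (n - 1) := by
      obtain ⟨j, hj⟩ := IsPGroup.iff_card.mp (c.pGroup.to_subgroup (twoStep X i))
      rw [hj]
      refine Nat.pow_le_pow_right hp.out.pos ?_
      have hlt : Nat.card (twoStep X i) < p ^ n := by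
        rw [← c.card]
        exact lt_of_le_of_ne (Subgroup.card_le_card_group _)
          (fun he => hmem i hi (Subgroup.eq_top_of_card_eq _ he))
      rw [hj] at hlt
      have := (Nat.pow_lt_pow_iff_right hp.out.one_lt).mp hlt
      omega
    have : Nat.card (L X 1) ≤ Nat.card (twoStep X i) := Subgroup.card_le_of_le (L_one_le_twoStep i)
    omega
  have h3 : ∑ i ∈ T, (B i).card + T.card * Nat.card (L X 1) ≤ T.card * p ^ (n - 1) := by
    rw [← smul_eq_mul (a := T.card), ← smul_eq_mul (a := T.card) (b := p ^ (n - 1)), ← Finset.sum_const,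
      ← Finset.sum_const, ← Finset.sum_add_distrib]
    exact Finset.sum_le_sum h2
  rw [Finset.card_univ, ← Nat.card_eq_fintype_card, c.card, hA] at h1
  rw [c.card_L le_rfl] at h1 h3
  obtain ⟨m, rfl⟩ : ∃ m, n = m + 2 := ⟨n - 2, by omega⟩
  simp only [show m + 2 - 1 = m + 1 by omega, Nat.add_sub_cancel] at h1 h3
  have hpp := hp.out.two_le
  rw [pow_succ'] at h3
  rw [pow_succ', pow_succ'] at h1
  have hpm : 0 < p ^ m := pow_pos hp.out.pos m
  obtain ⟨q, hq⟩ : ∃ q, p = q + 1 := ⟨p - 1, by omega⟩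
  generalize p ^ m = P at h1 h3 hpm
  generalize ∑ i ∈ T, (B i).card = S at h1 h3
  subst hq
  have h4 : T.card * ((q + 1) * P) ≤ T.card * P + T.card * q * P := le_of_eq (by ring)
  have h5 : T.card * q * P ≤ (q + 1) * q * P :=
    Nat.mul_le_mul_right _ (Nat.mul_le_mul_right _ hT)
  have h6 : S ≤ (q + 1) * q * P := by omega
  have h7 : (q + 1) * ((q + 1) * P) = (q + 1) * q * P + q * P + P := by ring
  have h8 : 1 * P ≤ q * P := Nat.mul_le_mul_right _ (by omega)
  omega

/-- Blackburn: the two-step centralizers repeat with period `p - 1`. -/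
theorem twoStep_periodic : ∀ i, 1 ≤ i → i ≤ n - 3 →
    ∃ j, 1 ≤ j ∧ j ≤ p - 1 ∧ j ≤ i ∧ twoStep X j = twoStep X i := by
  intro i
  induction i using Nat.strong_induction_on with
  | _ i ih =>
  intro hi hin
  have hn := c.three_le
  have hp2 := hp.out.two_le
  by_cases hip : i ≤ p - 1
  · exact ⟨i, hi, hip, le_rfl, rfl⟩
  have hcQ : Mc (X ⧸ L X (i + 2)) p (i + 3) := c.quot (by omega) (by omega)
  -- an element good for the quotient
  obtain ⟨g, hg1, hg⟩ := c.exists_avoid (insert i (Finset.Icc 1 (p - 1)))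
    (by
      refine (Finset.card_insert_le _ _).trans ?_
      rw [Nat.card_Icc]
      omega)
    (fun j hj => by
      rcases Finset.mem_insert.mp hj with rfl | hj
      · exact c.twoStep_ne_top hi hin
      · rw [Finset.mem_Icc] at hj
        exact c.twoStep_ne_top hj.1 (by omega))
  have hgall : ∀ j, 1 ≤ j → j ≤ i → g ∉ twoStep X j := by
    intro j hj hji
    rcases eq_or_lt_of_le hji with rfl | hlt
    · exact hg _ (Finset.mem_insert_self _ _)
    · obtain ⟨j', h1, h2, -, heq⟩ := ih j hlt hj (by omega)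
      rw [← heq]
      exact hg _ (Finset.mem_insert_of_mem (Finset.mem_Icc.mpr ⟨h1, h2⟩))
  set π := QuotientGroup.mk' (L X (i + 2)) with hπ
  have hlift : ∀ (k : ℕ), k ≤ i + 2 → ∀ x : X, π x ∈ L (X ⧸ L X (i + 2)) k → x ∈ L X k := by
    intro k hk x hx
    rw [← map_L (i + 2), ← mem_comap, comap_map_eq, QuotientGroup.ker_mk',
      sup_of_le_left (Subgroup.lowerCentralSeries_antitone _ hk)] at hx
    exact hx
  have hdown : ∀ (k : ℕ) (x : X), x ∈ L X k → π x ∈ L (X ⧸ L X (i + 2)) k := fun k x hx => by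
    rw [← map_L (i + 2)]; exact mem_map_of_mem _ hx
  have hGd : Gd (X ⧸ L X (i + 2)) p (i + 3) (π g) := by
    refine ⟨hcQ.card, hcQ.three_le, hcQ.card_centralizer (fun h => hg1 (hlift 1 (by omega) g h)) ?_⟩
    intro j hj hji hmem
    refine hgall j hj (by omega) (mem_twoStep.mpr fun u hu => hlift (j + 2) (by omega) _ ?_)
    rw [map_commutatorElement]
    exact mem_twoStep.mp hmem (π u) (hdown j u hu)
  -- the power map carries one two-step centralizer into the other
  have hpow : ∀ k, 1 ≤ k → k + p - 1 ≤ i + 2 → ∀ x ∈ L X k, x ^ p ∈ L X (k + p - 1) := by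
    intro k hk hk' x hx
    refine hlift _ hk' _ ?_
    rw [map_pow]
    exact hGd.pow_mem hk _ (hdown k x hx)
  have hpow' : ∀ k, i + 2 ≤ k + p - 1 → 1 ≤ k → ∀ x ∈ L X k, x ^ p ∈ L X (i + 2) := by
    intro k hk hk1 x hx
    exact hpow (i + 3 - p) (by omega) (by omega) x
      (Subgroup.lowerCentralSeries_antitone _ (by omega) hx) |> fun h => by
        rwa [show i + 3 - p + p - 1 = i + 2 by omega] at h
  obtain ⟨j₀, hj₀, hji⟩ : ∃ j₀, 1 ≤ j₀ ∧ i + 1 = j₀ + p := ⟨i + 1 - p, by omega, by omega⟩
  obtain ⟨u, hu, hu'⟩ := SetLike.not_le_iff_exists.mp (c.L_lt hj₀ (by omega))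
  obtain ⟨hu1, hu2⟩ := hGd.pow_sharp hj₀ (by omega) (hdown j₀ u hu)
    (fun h => hu' (hlift _ (by omega) u h))
  have hupi : u ^ p ∈ L X i := by
    have := hpow j₀ hj₀ (by omega) u hu
    rwa [show j₀ + p - 1 = i by omega] at this
  have hupi' : u ^ p ∉ L X (i + 1) := fun h => hu2 (by
    rw [← map_pow, show j₀ + p = i + 1 by omega]
    exact hdown _ _ h)
  have hsub : twoStep X j₀ ≤ twoStep X i := by
    intro a ha
    refine c.mem_twoStep_of hi hupi hupi' ?_
    set w := u⁻¹ * (a * u * a⁻¹) with hw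
    have hwmem : w ∈ L X (j₀ + 2) := by
      have h1 := (inferInstance : (L X (j₀ + 2)).Normal).conj_mem _ (mem_twoStep.mp ha u hu) u⁻¹
      have e : w = u⁻¹ * ⁅a, u⁆ * u⁻¹⁻¹ := by simp only [hw, commutatorElement_def]; group
      rwa [e]
    haveI : ∀ k, (PolySeq.lcsFil X k).Normal := fun k => by unfold PolySeq.lcsFil; infer_instance
    have hlev : ∀ k, PolySeq.lcsFil X (k + 1) = L X k := fun k => by simp [PolySeq.lcsFil]
    have hF := PolySeq.isFiltration_lowerCentralSeries (G := X)
    let f : ℕ → X := fun m => (u * w) ^ m * (u ^ m)⁻¹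
    let v : X → ℕ → X := fun b m => u ^ (m + 1) * b * (u ^ (m + 1))⁻¹
    have hdiffv : ∀ b, PolySeq.diff (v b) = v (b⁻¹ * (u * b * u⁻¹)) := fun b => by
      funext m
      simp only [PolySeq.diff, v, pow_succ]
      group
    have hfd : PolySeq.diff f = v w := by
      funext m
      simp only [PolySeq.diff, f, v, pow_succ, mul_inv_rev, inv_inv]
      group
    have hvp : ∀ k q, ∀ b ∈ L X q, PolySeq.IsPoly (PolySeq.lcsFil X) k (q + 1) (v b) := by
      intro k
      induction k with
      | zero => intro q b hb m; rw [hlev]; exact (inferInstance : (L X q).Normal).conj_mem b hb _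
      | succ k ihk =>
        intro q b hb
        refine ⟨fun m => by rw [hlev]; exact (inferInstance : (L X q).Normal).conj_mem b hb _, ?_⟩
        rw [hdiffv]
        refine ihk (q + 1) _ ?_
        have e : b⁻¹ * (u * b * u⁻¹) = ⁅b⁻¹, u⁆ := by simp only [commutatorElement_def]; group
        rw [e]
        exact commutator_mem_commutator (inv_mem hb) (mem_top u)
    have hfmem : ∀ m, f m ∈ L X (j₀ + 2) := by
      intro m
      induction m with
      | zero => simp [f]
      | succ m ihm =>
        have h1 : f (m + 1) = f m * PolySeq.diff f m := by simp [PolySeq.diff]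
        rw [h1, hfd]
        exact mul_mem ihm ((inferInstance : (L X (j₀ + 2)).Normal).conj_mem w hwmem _)
    have hfp : PolySeq.IsPoly (PolySeq.lcsFil X) p (j₀ + 2) f := by
      obtain ⟨q, hq⟩ : ∃ q, p = q + 1 := ⟨p - 1, by omega⟩
      rw [hq]
      refine ⟨fun m => hF.anti (Nat.le_succ _) (by rw [hlev]; exact hfmem m), ?_⟩
      rw [hfd]
      exact hvp _ _ _ hwmem
    have hnext : PolySeq.lcsFil X (j₀ + 1 + p + 1) ≤ L X (i + 2) := by
      rw [hlev]; exact Subgroup.lowerCentralSeries_antitone _ (by omega)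
    have key := PearlRank.pow_congr hF hp.out (by omega : 1 ≤ j₀ + 1)
      (PolySeq.IsPoly.anti hF (Nat.le_succ _) hfp) (by simp [f]) (fun k hk y hy => by
      obtain ⟨k, rfl⟩ : ∃ k', k = k' + 1 := ⟨k - 1, by omega⟩
      rw [hlev] at hy
      rw [hlev, show j₀ + 1 + p = i + 2 by omega]
      exact hpow' k (by omega) (by omega) y hy)
    have hd := PearlRank.dlt_mem hfp
    rw [show j₀ + 2 + p = (j₀ + 1 + p) + 1 by omega, hlev] at hd
    have hf1 : f 1 ^ p ∈ L X (i + 2) := by
      refine hpow' (j₀ + 2) (by omega) (by omega) _ (hfmem 1)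
    have hfpm : f p ∈ L X (i + 2) := by
      rw [← QuotientGroup.eq_one_iff]
      change π (f p) = 1
      have h3 := QuotientGroup.eq.1 (key.trans (rfl) : _)
      have h4 := hnext h3
      have h5 : π (((f p) * ((f 1) ^ p)⁻¹)⁻¹ * PearlRank.dlt p f) = 1 :=
        (QuotientGroup.eq_one_iff _).2 h4
      have h6 : π (PearlRank.dlt p f) = 1 := (QuotientGroup.eq_one_iff _).2
        (Subgroup.lowerCentralSeries_antitone _ (by omega) hd)
      have h7 : π (f 1 ^ p) = 1 := (QuotientGroup.eq_one_iff _).2 hf1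
      rw [map_mul, map_inv, map_mul, map_inv, h6, h7] at h5
      simpa only [inv_one, mul_one, inv_eq_one] using h5
    have e : ⁅a, u ^ p⁆ = f p := by
      have : u * w = a * u * a⁻¹ := by rw [hw]; group
      simp only [f, this, conj_pow, commutatorElement_def]
    rw [e]
    exact hfpm
  obtain ⟨j, hj1, hj2, hjle, hjeq⟩ := ih j₀ (by omega) hj₀ (by omega)
  refine ⟨j, hj1, hj2, by omega, ?_⟩
  rw [hjeq]
  have hnp : Nat.card (twoStep X i) < Nat.card X :=
    lt_of_le_of_ne (Subgroup.card_le_card_group _)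
      (fun he => c.twoStep_ne_top hi hin (Subgroup.eq_top_of_card_eq _ he))
  refine Subgroup.eq_of_le_of_card_ge hsub ?_
  by_contra hlt
  rw [not_le] at hlt
  have hlt' : twoStep X j₀ < twoStep X i := lt_of_le_of_ne hsub (fun he => by rw [he] at hlt; exact lt_irrefl _ hlt)
  have h1 := PGroup.mul_card_le_of_lt c.pGroup hlt'
  have h2 := (twoStep X j₀).card_mul_index
  have h3 := c.twoStep_index_le hj₀ (by omega : j₀ ≤ n - 3)
  have h4 : Nat.card X ≤ Nat.card (twoStep X i) := by
    rw [← h2]
    exact (Nat.mul_le_mul_left _ h3).trans (by rw [mul_comm]; exact h1)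
  omega

/-- A group of maximal class has an element with centralizer of order `p ^ 2`. -/
theorem exists_good : ∃ s : X, Gd X p n s := by
  classical
  obtain ⟨g, hg1, hg⟩ := c.exists_avoid ((Finset.Icc 1 (p - 1)).filter (fun j => j ≤ n - 3))
    (by
      refine (Finset.card_filter_le _ _).trans ?_
      rw [Nat.card_Icc]
      omega)
    (fun j hj => by
      simp only [Finset.mem_filter, Finset.mem_Icc] at hj
      exact c.twoStep_ne_top hj.1.1 hj.2)
  refine ⟨g, c.card, c.three_le, c.card_centralizer hg1 fun i hi hin hmem => ?_⟩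
  obtain ⟨j, h1, h2, h3, heq⟩ := c.twoStep_periodic i hi hin
  exact hg j (by simp only [Finset.mem_filter, Finset.mem_Icc]; omega) (heq ▸ hmem)

end Mc

end Cfsg.Agent.MaxClassPower
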