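import Cfsg.Agent.Lib.MaxClass.SmallFlag
import Cfsg.Agent.Lib.EssentialSmall.Basic
import Cfsg.Agent.Lib.RankThreeEss.Linear
import Cfsg.Agent.Lib.HallHigman.FrattiniModule
import Cfsg.Agent.Lib.EssentialSmall.OrderFour

/-!
# Small essential subgroups of p-groups of maximal class

`small_cases` : an essential subgroup of order at most `p ^ 3` is a pearl or elementary abelian of order `p ^ 3`;
`false_of_elementary_cube` : the last case is impossible in a group of maximal class of order at least `p ^ 5`.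
-/

set_option autoImplicit false
set_option linter.unusedSectionVars false
set_option linter.style.haveILetI false

open Subgroup
open scoped commutatorElement Pointwise

universe u

namespace Cfsg.Agent.MaxClassPower

open Cfsg Cfsg.FusionSystem Cfsg.Agent.Fusion PearlRank

variable {p n : ℕ} [hp : Fact p.Prime]

/-- A group of order `p ^ n` whose class is at least `n - 1` is of maximal class. -/
theorem Mc.of_not_top {X : Type u} [Group X] [Finite X] (hn : Nat.card X = p ^ n) (h3 : 3 ≤ n)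
    (h : Subgroup.upperCentralSeries X (n - 2) ≠ ⊤) : Mc X p n := by
  have hX : IsPGroup p X := IsPGroup.of_card hn
  haveI := hX.isNilpotent
  refine ⟨hn, h3, le_antisymm ?_ ?_⟩
  · refine Subgroup.lowerCentralSeries_eq_bot_iff_nilpotencyClass_le.mp
      (Subgroup.lowerCentralSeries_eq_bot_iff_upperCentralSeries_eq_top.mpr ?_)
    have hZ := MaxClass.card_upperCentralSeries hX hn h3 h (i := n - 2) le_rfl
    have hq : Nat.card (X ⧸ Subgroup.upperCentralSeries X (n - 2)) = p ^ 2 := by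
      have h1 := Subgroup.index_mul_card (Subgroup.upperCentralSeries X (n - 2))
      rw [hZ, hn, show p ^ n = p ^ 2 * p ^ (n - 2) by rw [← pow_add]; congr 1; omega] at h1
      rw [← index_eq_card]
      exact Nat.eq_of_mul_eq_mul_right (pow_pos hp.out.pos _) h1
    rw [show n - 1 = n - 2 + 1 by omega, eq_top_iff]
    intro x _
    rw [Subgroup.mem_upperCentralSeries_succ_iff]
    intro y
    rw [← QuotientGroup.eq_one_iff]
    show QuotientGroup.mk' (Subgroup.upperCentralSeries X (n - 2)) _ = 1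
    have := (IsPGroup.isMulCommutative_of_card_eq_prime_sq hq).is_comm.comm
      (QuotientGroup.mk' (Subgroup.upperCentralSeries X (n - 2)) x)
      (QuotientGroup.mk' (Subgroup.upperCentralSeries X (n - 2)) y)
    rw [map_commutatorElement, commutatorElement_eq_one_iff_mul_comm]
    exact this
  · by_contra hlt
    exact h (Subgroup.lowerCentralSeries_eq_bot_iff_upperCentralSeries_eq_top.mp
      (Subgroup.lowerCentralSeries_eq_bot_iff_nilpotencyClass_le.mpr (by omega)))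

/-- The groups of order at most `p ^ 3` with the essential property. -/
theorem small_cases {H : Type*} [Group H] [Finite H] {A : Subgroup (MulAut H)} (s : EssentialSmall.Setting p A)
    (hp2 : p ≠ 2) (hle : Nat.card H ≤ p ^ 3) :
    (Nat.card H = p ^ 2 ∧ (∀ x y : H, x * y = y * x) ∧ ∀ x : H, x ^ p = 1) ∨
      (Nat.card H = p ^ 3 ∧ Cfsg.IsExtraspecial p H ∧ Monoid.exponent H = p) ∨
      (Nat.card H = p ^ 3 ∧ (∀ x y : H, x * y = y * x) ∧ ∀ x : H, x ^ p = 1) := by
  have hp1 := hp.out.one_lt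
  obtain ⟨j, hj⟩ := IsPGroup.iff_card.mp s.pgroup
  have hj3 : j ≤ 3 := (Nat.pow_le_pow_iff_right hp1).1 (hj ▸ hle)
  have hsmall : j ≤ 1 → False := fun h => by
    refine s.false_of_series ⊤ ⊤ le_rfl (fun _ _ _ _ => mem_top _) (fun _ _ _ _ => mem_top _) ?_ ?_ ?_
    · rw [card_top, hj]; exact (Nat.pow_le_pow_right hp.out.pos h).trans (pow_one p).le
    · exact Nat.le_mul_of_pos_left _ hp.out.pos
    · rw [card_top]; exact Nat.le_mul_of_pos_left _ hp.out.pos
  by_cases hexp : ∀ x : H, x ^ p = 1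
  · rcases (show j ≤ 1 ∨ j = 2 ∨ j = 3 by omega) with h | rfl | rfl
    · exact (hsmall h).elim
    · exact Or.inl ⟨hj, (IsPGroup.isMulCommutative_of_card_eq_prime_sq hj).is_comm.comm, hexp⟩
    · by_cases hab : ∀ x y : H, x * y = y * x
      · exact Or.inr (Or.inr ⟨hj, hab, hexp⟩)
      · haveI : Nontrivial H := by
          rw [← Finite.one_lt_card_iff_nontrivial, hj]; exact Nat.one_lt_pow (by norm_num) hp1
        exact Or.inr (Or.inl ⟨hj, EssentialSmall.isExtraspecial_of_card_cube hj hab hexp,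
          (Monoid.exponent_eq_prime_iff hp.out).2 fun g hg => orderOf_eq_prime (hexp g) hg⟩)
  exfalso
  have hj2 : 2 ≤ j := by
    by_contra h
    exact hsmall (by omega)
  -- commutators are central of order dividing `p`
  have hcm : ∀ x y : H, ⁅y, x⁆ ∈ center H ∧ ⁅y, x⁆ ^ p = 1 := by
    intro x y
    by_cases hab : ∀ x y : H, x * y = y * x
    · rw [commutatorElement_eq_one_iff_mul_comm.2 (hab y x)]
      exact ⟨one_mem _, one_pow _⟩
    rcases (show j = 2 ∨ j = 3 by omega) with rfl | rfl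
    · exact absurd (IsPGroup.isMulCommutative_of_card_eq_prime_sq hj).is_comm.comm hab
    obtain ⟨h1, h2⟩ := EssentialSmall.card_center_mul_le hj hab
    have hZ : Nat.card (center H) = p := by
      obtain ⟨i, -, hi⟩ := (Nat.dvd_prime_pow hp.out).1 (hj ▸ Subgroup.card_subgroup_dvd_card (center H))
      rw [hi, hj, ← pow_add, Nat.pow_le_pow_iff_right hp1] at h2
      rcases i with _ | _ | i
      · rw [hi, pow_zero] at h1; exact absurd h1 (lt_irrefl 1)
      · rw [hi, pow_one]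
      · omega
    have hq : IsMulCommutative (H ⧸ center H) :=
      IsPGroup.isMulCommutative_of_card_eq_prime_sq (p := p) (by
        have h := Subgroup.index_mul_card (center H)
        rw [hZ, hj, pow_succ] at h
        rw [← Subgroup.index_eq_card]
        exact Nat.eq_of_mul_eq_mul_right hp.out.pos h)
    have hc : ⁅y, x⁆ ∈ center H :=
      (Subgroup.Normal.quotient_commutative_iff_commutator_le.1 hq)
        (commutator_mem_commutator (mem_top y) (mem_top x))
    refine ⟨hc, ?_⟩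
    have h := orderOf_dvd_natCard (⟨⁅y, x⁆, hc⟩ : center H)
    rw [hZ, orderOf_dvd_iff_pow_eq_one] at h
    exact congrArg Subtype.val h
  let φ : H →* H := MonoidHom.mk' (fun x => x ^ p) fun x y =>
    PGroup.mul_pow_prime_eq hp.out hp2 ((mem_center_iff.1 (hcm x y).1) x) ((mem_center_iff.1 (hcm x y).1) y) (hcm x y).2
  have hI : ∀ a ∈ A, ∀ x ∈ φ.range, a x ∈ φ.range := by
    rintro a - _ ⟨y, rfl⟩
    exact ⟨a y, (map_pow a y p).symm⟩
  have hK : ∀ a ∈ A, ∀ x ∈ φ.ker, a x ∈ φ.ker := fun a _ x hx => by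
    show a x ^ p = 1
    rw [← map_pow, show x ^ p = 1 from hx, map_one]
  haveI : φ.range.Normal := ⟨by
    rintro _ ⟨y, rfl⟩ g
    exact ⟨g * y * g⁻¹, conj_pow⟩⟩
  have hprod : Nat.card φ.ker * Nat.card φ.range = p ^ j := by
    rw [← Subgroup.index_ker, Subgroup.card_mul_index, hj]
  obtain ⟨i, hi⟩ := IsPGroup.iff_card.mp (s.pgroup.to_subgroup φ.range)
  obtain ⟨k, hk⟩ := IsPGroup.iff_card.mp (s.pgroup.to_subgroup φ.ker)
  rw [hi, hk, ← pow_add] at hprod
  have hik : k + i = j := Nat.pow_right_injective hp.out.two_le hprod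
  have hi0 : i ≠ 0 := fun h => hexp fun x => by
    have hb := Subgroup.eq_bot_of_card_eq _ (show Nat.card φ.range = 1 by rw [hi, h, pow_zero])
    exact Subgroup.mem_bot.1 (hb ▸ ⟨x, rfl⟩ : x ^ p ∈ (⊥ : Subgroup H))
  have hkerI : ∀ U : Subgroup H, U ≠ ⊥ → ∃ x ∈ U, x ≠ 1 ∧ x ∈ φ.ker := by
    intro U hU
    obtain ⟨d, hd⟩ := IsPGroup.iff_card.mp (s.pgroup.to_subgroup U)
    have hd0 : d ≠ 0 := fun h => hU (Subgroup.eq_bot_of_card_eq _ (by rw [hd, h, pow_zero]))
    obtain ⟨x, hx⟩ := exists_prime_orderOf_dvd_card' p (show p ∣ Nat.card U by rw [hd]; exact dvd_pow_self p hd0)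
    refine ⟨x, x.2, fun h => hp.out.ne_one ?_, ?_⟩
    · rw [← hx, ← Subgroup.orderOf_coe, h, orderOf_one]
    · show (x : H) ^ p = 1
      rw [← Subgroup.coe_pow, ← hx, pow_orderOf_eq_one]
      rfl
  have hk0 : k ≠ 0 := fun h => by
    obtain ⟨x, -, hx1, hxk⟩ := hkerI φ.range (fun hb => hi0 (by
      rw [hb, card_bot] at hi
      exact Nat.pow_right_injective hp.out.two_le (a₁ := i) (a₂ := 0) (hi.symm.trans (pow_zero p).symm)))
    rw [Subgroup.eq_bot_of_card_eq _ (show Nat.card φ.ker = 1 by rw [hk, h, pow_zero]), mem_bot] at hxk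
    exact hx1 hxk
  rcases (show (i = 1 ∧ k = 1) ∨ (i = 1 ∧ k = 2) ∨ (i = 2 ∧ k = 1) by omega) with ⟨rfl, rfl⟩ | ⟨rfl, rfl⟩ | ⟨rfl, rfl⟩
  · obtain rfl : j = 2 := by omega
    rw [pow_one] at hi
    refine s.false_of_series φ.range ⊤ le_top hI (fun _ _ _ _ => mem_top _) hi.le ?_ ?_
    · rw [card_top, hj, hi, pow_two]
    · rw [card_top]; exact Nat.le_mul_of_pos_left _ hp.out.pos
  · obtain rfl : j = 3 := by omega
    rw [pow_one] at hi
    refine s.false_of_series φ.range φ.ker ?_ hI hK hi.le ?_ ?_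
    · intro x hx
      have h := orderOf_dvd_natCard (⟨x, hx⟩ : φ.range)
      rw [hi, orderOf_dvd_iff_pow_eq_one] at h
      exact congrArg Subtype.val h
    · rw [hk, hi, pow_two]
    · rw [hj, hk, ← pow_succ']
  · obtain rfl : j = 3 := by omega
    refine s.false_of_series (φ.range ⊓ φ.ker) φ.range inf_le_left
      (fun a ha x hx => ⟨hI a ha x hx.1, hK a ha x hx.2⟩) hI ?_ ?_ ?_
    · exact (Subgroup.card_le_of_le inf_le_right).trans (hk.trans (pow_one p)).le
    · have hne : φ.range ⊓ φ.ker ≠ ⊥ := fun hb => by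
        obtain ⟨x, hx, hx1, hxk⟩ := hkerI φ.range (fun hb => by
          rw [hb, card_bot] at hi
          exact absurd hi.symm (Nat.one_lt_pow (by norm_num) hp1).ne')
        exact hx1 (Subgroup.mem_bot.1 (hb ▸ (⟨hx, hxk⟩ : x ∈ φ.range ⊓ φ.ker)))
      obtain ⟨d, hd⟩ := IsPGroup.iff_card.mp (s.pgroup.to_subgroup (φ.range ⊓ φ.ker))
      have hd0 : 1 ≤ d := Nat.one_le_iff_ne_zero.2 fun h => hne (Subgroup.eq_bot_of_card_eq _ (by rw [hd, h, pow_zero]))
      rw [hi, hd, ← pow_succ']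
      exact Nat.pow_le_pow_right hp.out.pos (by omega)
    · rw [hj, hi, ← pow_succ']

variable {Ω : Type u} [Group Ω] {S : Subgroup Ω} [Finite S] {F : FusionSystem S} {E : Subgroup Ω}

theorem false_of_elementary_cube (hp5 : 5 ≤ p) (hn5 : 5 ≤ n) (hS : IsPGroup p S) (hF : F.IsSaturated p)
    (c : Mc S p n) (hE : F.IsEssential p E) (hE3 : Nat.card E = p ^ 3) (hab : ∀ x y : E, x * y = y * x)
    (hexp : ∀ x : E, x ^ p = 1) : False := by
  have hES : E ≤ S := hE.1.1
  have hp2 : p ≠ 2 := by omega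
  haveI := finite_of_le (S := S) hES
  haveI := finite_mulAut (S := S) hES
  obtain ⟨-, hfn, hIn, M₀, hM₀⟩ := id hE
  haveI := hIn
  -- `L (n - 4)` normalizes `E`
  set N := normalizerIn S E with hN
  have hNS : N ≤ S := inf_le_left
  haveI := finite_of_le (S := S) hNS
  have hNp : IsPGroup p N := hS.to_le hNS
  have hEN : E ≤ N := le_normalizerIn hES
  have hEab : ∀ u ∈ E, ∀ v ∈ E, u * v = v * u := fun u hu v hv => congrArg Subtype.val (hab ⟨u, hu⟩ ⟨v, hv⟩)
  have hcen : ∀ g ∈ S, (∀ v ∈ E, v * g = g * v) → g ∈ E := fun g hg h =>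
    FusionChain.centralizerIn_le_of_centric hE.1 ⟨hg, mem_centralizer_iff.mpr h⟩
  have hAN : An S n ≤ N := by
    rintro _ ⟨x, hx, rfl⟩
    have h := c.L_le_normalizer hn5 (E := E.subgroupOf S)
      (by rw [Nat.card_congr (subgroupOfEquivOfLe hES).toEquiv, hE3])
      (fun u hu v hv => Subtype.ext (hEab _ hu _ hv))
      (fun g hg => hcen _ g.2 fun v hv => congrArg Subtype.val (mem_centralizer_iff.mp hg ⟨v, hES hv⟩ hv)) hx
    refine mem_normalizerIn.2 ⟨x.2, fun v => ⟨fun hv => ?_, fun hv => ?_⟩⟩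
    · exact (mem_normalizer_iff.1 h ⟨v, hES hv⟩).1 hv
    · have hvS : v ∈ S := by
        have := S.mul_mem (S.mul_mem (S.inv_mem x.2) (hES hv)) x.2
        simpa [mul_assoc] using this
      exact (mem_normalizer_iff.1 h ⟨v, hvS⟩).2 hv
  -- the representation on `E`
  letI : CommGroup E := { (inferInstance : Group E) with mul_comm := hab }
  let A := F.autGroup E
  let I := (Cfsg.Inn E).subgroupOf A
  obtain ⟨instM, σ, hσ⟩ := HallHigman.exists_linear_rep (Q := E) hexp A.subtype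
  letI := instM
  have hIσ : ∀ α : A, α ∈ I → σ α = 1 := by
    rintro ⟨α, hα⟩ ⟨e, rfl⟩
    refine LinearMap.ext fun v => ?_
    show σ _ (Additive.ofMul (Additive.toMul v)) = _
    rw [hσ]
    show Additive.ofMul (MulAut.conj e (Additive.toMul v)) = _
    rw [MulAut.conj_apply, hab e, mul_inv_cancel_right]
    rfl
  let ρ : A ⧸ I →* Module.End (ZMod p) (Additive E) := QuotientGroup.lift I σ hIσ
  have hρi : Function.Injective ρ := by
    refine (injective_iff_map_eq_one ρ).2 fun q hq => ?_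
    obtain ⟨α, rfl⟩ := QuotientGroup.mk_surjective q
    have hα1 : α = 1 := Subtype.ext (MulEquiv.ext fun v => by
      have h := hσ α v
      rw [show σ α = 1 from hq] at h
      exact (Additive.ofMul.injective h).symm)
    rw [hα1, QuotientGroup.mk_one]
  let R : RankThreeEss.Rep p (A ⧸ I) (Additive E) :=
    { three := by omega
      card := by rw [← hE3]; exact Nat.card_congr Additive.ofMul.symm
      ρ := ρ
      inj := hρi
      M := M₀
      emb := hM₀ }
  let nc : N →* A := (normConj S E).codRestrict A fun g => (Resist.normConj_mem F hES g).2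
  let χ : N →* A ⧸ I := (QuotientGroup.mk' I).comp nc
  have hact : ∀ (g : N) (e : E), R.ρ (χ g) (Additive.ofMul e) = Additive.ofMul (normConj S E g e) := fun g e =>
    hσ (nc g) e
  set En := E.subgroupOf N with hEn
  haveI hEnn : En.Normal := ⟨fun e he g =>
    show (g : Ω) * e * (g : Ω)⁻¹ ∈ E from normalizerIn_conj g.2 he⟩
  have hχ1 : ∀ g : N, χ g = 1 ↔ g ∈ En := fun g => by
    refine (QuotientGroup.eq_one_iff (nc g)).trans ?_
    refine ⟨fun h => Resist.mem_of_inn hE h, fun h => ?_⟩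
    show normConj S E g ∈ Cfsg.Inn E
    exact ⟨⟨g, h⟩, MulEquiv.ext fun _ => Subtype.ext rfl⟩
  have hkerχ : χ.ker = En := by ext g; exact hχ1 g
  have hrange : IsPGroup p χ.range := hNp.of_surjective χ.rangeRestrict χ.rangeRestrict_surjective
  have hEnc : Nat.card En = p ^ 3 := by rw [Nat.card_congr (subgroupOfEquivOfLe hEN).toEquiv, hE3]
  have hNle : Nat.card N ≤ p ^ 4 := by
    rw [← χ.ker.card_mul_index, Subgroup.index_ker, hkerχ, hEnc, pow_succ _ 3]
    exact Nat.mul_le_mul_left _ (R.card_pgroup_le hrange)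
  have hScard : p ^ 5 ≤ Nat.card S := c.card ▸ Nat.pow_le_pow_right hp.out.pos hn5
  have hA3 : Nat.card (An S n) = p ^ 3 := by
    rw [An, card_map_of_injective S.subtype_injective, c.card_L (by omega), show n - 1 - (n - 4) = 3 by omega]
  obtain ⟨a₀, ha₀, ha₀E⟩ : ∃ a ∈ An S n, a ∉ E := by
    by_contra h
    push Not at h
    have heq : An S n = E := eq_of_le_of_card hES h (by rw [hA3, hE3])
    have := hNle
    rw [hN, ← heq, normalizerIn_An] at this
    have := (hScard.trans this)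
    rw [Nat.pow_le_pow_iff_right hp.out.one_lt] at this
    omega
  set x : N := ⟨a₀, hAN ha₀⟩ with hx
  have hxE : x ∉ En := ha₀E
  have hu1 : χ x ≠ 1 := fun h => hxE ((hχ1 x).1 h)
  have hrc : Nat.card χ.range = p := by
    refine le_antisymm (R.card_pgroup_le hrange) ?_
    haveI : Nontrivial χ.range := (Subgroup.nontrivial_iff_ne_bot _).2 fun h =>
      hu1 (Subgroup.mem_bot.1 (h ▸ ⟨x, rfl⟩ : χ x ∈ (⊥ : Subgroup _)))
    obtain ⟨m, hm, hc⟩ := hrange.nontrivial_iff_card.1 ‹_›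
    exact hc ▸ Nat.le_self_pow hm.ne' p
  have hN4 : Nat.card N = p ^ 4 := by
    rw [← χ.ker.card_mul_index, Subgroup.index_ker, hkerχ, hEnc, hrc, ← pow_succ]
  have hgen : ∀ g : N, ∃ i : ℕ, (x ^ i)⁻¹ * g ∈ En := by
    intro g
    have htop : Subgroup.zpowers (⟨χ x, x, rfl⟩ : χ.range) = ⊤ :=
      zpowers_eq_top_of_prime_card hrc fun h => hxE ((hχ1 x).1 (congrArg Subtype.val h))
    obtain ⟨i, hi⟩ := mem_powers_iff_mem_zpowers.2 (htop ▸ Subgroup.mem_top (⟨χ g, g, rfl⟩ : χ.range))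
    refine ⟨i, (hχ1 _).1 ?_⟩
    rw [map_mul, map_inv, map_pow, inv_mul_eq_one]
    exact congrArg Subtype.val hi
  set An' := (An S n).subgroupOf N with hAn'
  have hAnconj : ∀ g ∈ S, ∀ v ∈ An S n, g * v * g⁻¹ ∈ An S n := fun g hg v hv =>
    normalizerIn_conj (normalizerIn_An.ge hg) hv
  haveI hAnn : An'.Normal := ⟨fun v hv g => hAnconj _ g.2.1 _ hv⟩
  have hAab : ∀ u ∈ An S n, ∀ v ∈ An S n, u * v = v * u := by
    rintro _ ⟨u, hu, rfl⟩ _ ⟨v, hv, rfl⟩
    exact congrArg Subtype.val (c.commute_of_mem_L hn5 hu hv).eq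
  have hAexp : ∀ v ∈ An', v ^ p = 1 := by
    intro v hv
    obtain ⟨y, hy, e⟩ := hv
    have h := congrArg Subtype.val (c.pow_eq_one_of_mem_L hp5 hn5 hy)
    exact Subtype.ext (show (v : Ω) ^ p = 1 by rw [show (v : Ω) = y from e.symm]; simpa using h)
  set W := En ⊓ An' with hW
  -- the transvection
  have hsq : R.nil (χ x) * R.nil (χ x) = 0 := by
    refine LinearMap.ext fun v => ?_
    obtain ⟨e, rfl⟩ := Additive.ofMul.surjective v
    have e1 : R.nil (χ x) (Additive.ofMul e) = Additive.ofMul (normConj S E x e * e⁻¹) := by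
      rw [RankThreeEss.Rep.nil, LinearMap.sub_apply, hact]
      exact sub_eq_add_neg _ _
    have hd : ((normConj S E x e * e⁻¹ : E) : Ω) ∈ An S n := by
      show a₀ * (e : Ω) * a₀⁻¹ * (e : Ω)⁻¹ ∈ An S n
      have := mul_mem ha₀ (hAnconj _ (hES e.2) _ (inv_mem ha₀))
      rwa [show a₀ * ((e : Ω) * a₀⁻¹ * (e : Ω)⁻¹) = a₀ * e * a₀⁻¹ * (e : Ω)⁻¹ by group] at this
    have e2 : normConj S E x (normConj S E x e * e⁻¹) = normConj S E x e * e⁻¹ := Subtype.ext (by
      show a₀ * _ * a₀⁻¹ = _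
      rw [hAab a₀ ha₀ _ hd, mul_inv_cancel_right])
    rw [Module.End.mul_apply, e1, RankThreeEss.Rep.nil, LinearMap.sub_apply, hact, e2]
    exact sub_self _
  obtain ⟨ku, hku⟩ := hNp x
  have hu : ∃ k : ℕ, χ x ^ p ^ k = 1 := ⟨ku, by rw [← map_pow, hku, map_one]⟩
  obtain ⟨a, z, cc, t, hind, hua, huz, huc, hta, htz, htc⟩ :=
    R.exists_torus hu hu1 hsq (-1 : ZMod p) (neg_ne_zero.2 one_ne_zero)
  rw [inv_neg_one, neg_one_smul] at hta
  rw [neg_one_smul] at htz
  have hcoord := RankThreeEss.exists_coords R.card a z cc hind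
  set ea : E := Additive.toMul a with hea
  set ez : E := Additive.toMul z with hez
  set ec : E := Additive.toMul cc with hec
  have hdec : ∀ e : E, ∃ i j k : ℕ, e = ea ^ i * ez ^ j * ec ^ k := by
    intro e
    obtain ⟨i, j, k, h⟩ := hcoord (Additive.ofMul e)
    refine ⟨i.val, j.val, k.val, Additive.ofMul.injective ?_⟩
    rw [h, ← ZMod.natCast_zmod_val i, ← ZMod.natCast_zmod_val j, ← ZMod.natCast_zmod_val k,
      Nat.cast_smul_eq_nsmul, Nat.cast_smul_eq_nsmul, Nat.cast_smul_eq_nsmul,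
      ZMod.natCast_zmod_val, ZMod.natCast_zmod_val, ZMod.natCast_zmod_val]
    rfl
  have hxa : a₀ * (ea : Ω) * a₀⁻¹ = ea * ez := congrArg (fun v => ((Additive.toMul v : E) : Ω))
    ((hact x ea).symm.trans hua)
  have hxz : a₀ * (ez : Ω) * a₀⁻¹ = ez := congrArg (fun v => ((Additive.toMul v : E) : Ω))
    ((hact x ez).symm.trans huz)
  have hxc : a₀ * (ec : Ω) * a₀⁻¹ = ec := congrArg (fun v => ((Additive.toMul v : E) : Ω))
    ((hact x ec).symm.trans huc)
  have hezne : (ez : Ω) ≠ 1 := fun h => by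
    have hz0 : z = 0 := congrArg Additive.ofMul (show Additive.toMul z = 1 from Subtype.ext h)
    have := (hind 0 1 0 (by simp [hz0])).2.1
    exact one_ne_zero this
  set eaN : N := ⟨ea, hEN ea.2⟩ with heaN
  set ezN : N := ⟨ez, hEN ez.2⟩ with hezN
  set ecN : N := ⟨ec, hEN ec.2⟩ with hecN
  have hdecN : ∀ v ∈ En, ∃ i j k : ℕ, v = eaN ^ i * ezN ^ j * ecN ^ k := by
    intro v hv
    obtain ⟨i, j, k, h⟩ := hdec ⟨v, hv⟩
    exact ⟨i, j, k, Subtype.ext (by simpa using congrArg Subtype.val h)⟩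
  -- the fixed vectors
  set C := En ⊓ centralizer ({x} : Set N) with hC
  have hWC : W ≤ C := fun v hv => ⟨hv.1, mem_centralizer_singleton_iff.2
    (Subtype.ext (hAab _ hv.2 _ ha₀))⟩
  have hCcard : Nat.card C ≤ p ^ 2 := by
    have hlt : C < En := lt_of_le_of_ne inf_le_left fun h => hezne (by
      have h1 : eaN ∈ C := by rw [h]; exact ea.2
      have h2 : (ea : Ω) * a₀ = a₀ * ea := congrArg Subtype.val (mem_centralizer_singleton_iff.1 h1.2)
      rw [← h2, mul_inv_cancel_right] at hxa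
      exact mul_eq_left.1 hxa.symm)
    have := PGroup.mul_card_le_of_lt hNp hlt
    rw [hEnc, pow_succ' _ 2] at this
    exact Nat.le_of_mul_le_mul_left this hp.out.pos
  have hA'c : Nat.card An' = p ^ 3 := by rw [Nat.card_congr (subgroupOfEquivOfLe hAN).toEquiv, hA3]
  have hWcard : p ^ 2 ≤ Nat.card W := by
    have h := Solvable.card_eq_card_map_mul χ An'
    rw [hkerχ, hA'c, inf_comm An' En, ← hW] at h
    have h1 : Nat.card (An'.map χ) ≤ p := hrc ▸ Subgroup.card_le_of_le (Subgroup.map_le_range _ _)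
    have h2 := h.le.trans (Nat.mul_le_mul_right _ h1)
    rw [pow_succ' _ 2] at h2
    exact Nat.le_of_mul_le_mul_left h2 hp.out.pos
  have hCW : C = W := (Subgroup.eq_of_le_of_card_ge hWC (hCcard.trans hWcard)).symm
  have hW2 : Nat.card W = p ^ 2 := le_antisymm (hCW ▸ hCcard) hWcard
  have hezW : ezN ∈ W := hCW ▸ ⟨ez.2, mem_centralizer_singleton_iff.2 (Subtype.ext (mul_inv_eq_iff_eq_mul.1 hxz).symm)⟩
  have hecW : ecN ∈ W := hCW ▸ ⟨ec.2, mem_centralizer_singleton_iff.2 (Subtype.ext (mul_inv_eq_iff_eq_mul.1 hxc).symm)⟩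
  have hWcen : W = center N := by
    refine le_antisymm (fun v hv => mem_center_iff.2 fun g => ?_) fun v hv => ?_
    · obtain ⟨i, hi⟩ := hgen g
      have h1 : Commute v ((x ^ i)⁻¹ * g) := Subtype.ext (hEab _ hv.1 _ hi)
      have h2 : Commute v (x ^ i) := (show Commute v x from Subtype.ext (hAab _ hv.2 _ ha₀)).pow_right i
      have h3 := h2.mul_right h1
      rw [mul_inv_cancel_left] at h3
      exact h3.eq.symm
    · rw [← hCW]
      refine ⟨hcen _ v.2.1 fun e he => congrArg Subtype.val (mem_center_iff.1 hv ⟨e, hEN he⟩),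
        mem_centralizer_singleton_iff.2 (mem_center_iff.1 hv x).symm⟩
  haveI : W.Normal := inferInstance
  have hWdec : ∀ v ∈ W, ∃ j k : ℕ, v = ezN ^ j * ecN ^ k := by
    intro v hv
    obtain ⟨i, j, k, h⟩ := hdecN v hv.1
    refine ⟨j, k, ?_⟩
    by_cases hi : p ∣ i
    · obtain ⟨m, rfl⟩ := hi
      rwa [pow_mul, show eaN ^ p = 1 from Subtype.ext (by simpa using congrArg Subtype.val (hexp ea)), one_pow,
        one_mul] at h
    · exfalso
      have h1 : eaN ^ i ∈ W := by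
        have := mul_mem hv (inv_mem (mul_mem (pow_mem hezW j) (pow_mem hecW k)))
        rwa [h, mul_assoc (eaN ^ i), mul_inv_cancel_right] at this
      have h2 : eaN ∈ W := by
        obtain ⟨m, hm⟩ := Nat.exists_mul_mod_eq_one_of_coprime
          ((hp.out.coprime_iff_not_dvd.2 hi).symm) hp.out.one_lt
        have := pow_mem h1 m
        rwa [← pow_mul, ← Nat.mod_add_div (i * m) p, hm.2, pow_add, pow_one, pow_mul,
          show eaN ^ p = 1 from Subtype.ext (by simpa using congrArg Subtype.val (hexp ea)), one_pow, mul_one] at this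
      have h3 : (ea : Ω) * a₀ = a₀ * ea := hAab _ h2.2 _ ha₀
      rw [← h3, mul_inv_cancel_right] at hxa
      exact hezne (mul_eq_left.1 hxa.symm)
  -- the involution on `E` extends to `N`
  obtain ⟨α, hα⟩ := QuotientGroup.mk_surjective t
  have hαρ : ∀ e : E, Additive.ofMul ((α : MulAut E) e) = R.ρ t (Additive.ofMul e) := fun e => by
    rw [← hα]; exact (hσ α e).symm
  have htt : ∀ v, R.ρ t (R.ρ t v) = v := fun v => by
    obtain ⟨i, j, k, rfl⟩ := hcoord v
    simp only [map_add, map_smul, hta, htz, htc, map_neg, neg_neg]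
  have htu : t * χ x * t⁻¹ = χ x := by
    rw [mul_inv_eq_iff_eq_mul]
    refine R.inj (LinearMap.ext fun v => ?_)
    obtain ⟨i, j, k, rfl⟩ := hcoord v
    simp only [map_mul, Module.End.mul_apply, map_add, map_smul, hta, htz, htc, hua, huz, huc, map_neg, smul_add,
      smul_neg, neg_add_rev]
    abel
  have hlow : ∀ g : N, t * χ g * t⁻¹ = χ g := fun g => by
    obtain ⟨i, hi⟩ := hgen g
    have h := (hχ1 _).2 hi
    rw [map_mul, map_inv, map_pow, inv_mul_eq_one] at h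
    rw [← h, ← conj_pow, htu]
  have hext : ∀ g : Ω, ∀ hg : g ∈ N, (α : MulAut E) * normConj S E ⟨g, hg⟩ * (α : MulAut E)⁻¹ ∈ autInducedBy S E := by
    intro g hg
    have h0 := hlow ⟨g, hg⟩
    rw [← hα] at h0
    have h1 : ((nc ⟨g, hg⟩ : A))⁻¹ * (α * nc ⟨g, hg⟩ * α⁻¹) ∈ I := QuotientGroup.eq.1 h0.symm
    have h2 := mul_mem (Resist.normConj_mem F hES ⟨g, hg⟩).1
      (inn_le_autInducedBy hES (Subgroup.mem_subgroupOf.1 h1))
    convert h2 using 1
    exact (mul_inv_cancel_left _ _).symm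
  obtain ⟨f, hf, hfα⟩ := FusionChain.exists_extension (receptive_of_fullyNormalized hS hF hfn) α.2
    (le_refl N) hext
  have hfN : IsMap F N f := hf.mono le_sup_right
  have hconjf := fun g : N => Resist.map_conj_eq hfN hEN hfα (g := g) g.2
  let τ₀ : MulAut N := MulEquiv.ofBijective
    (MonoidHom.mk' (fun g : N => (⟨f g, (hconjf g).1⟩ : N)) fun a b => Subtype.ext (hfN.map_mul a.2 b.2))
    (Finite.injective_iff_bijective.1 fun a b h => Subtype.ext (hfN.inj a.2 b.2 (congrArg Subtype.val h)))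
  have hτ₀G : τ₀ ∈ F.autGroup N := (mem_autGroup_iff hNS).2 (hfN.congr fun y hy => by
    rw [autFn_apply τ₀ hy]; rfl)
  have hτ₀E : ∀ e : E, ((τ₀ ⟨e, hEN e.2⟩ : N) : Ω) = ((α : MulAut E) e : Ω) := fun e => by
    show f (e : Ω) = _
    rw [hfα _ e.2, autFn_apply (α : MulAut E) e.2]
  have hαα : ∀ e : E, (α : MulAut E) ((α : MulAut E) e) = e := fun e => Additive.ofMul.injective (by
    rw [hαρ, hαρ, htt])
  have hτ₀En : ∀ g ∈ En, τ₀ g ∈ En ∧ τ₀ (τ₀ g) = g := fun g hg => by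
    have e1 : τ₀ g = ⟨_, hEN ((α : MulAut E) ⟨g, hg⟩).2⟩ := Subtype.ext (hτ₀E ⟨g, hg⟩)
    refine ⟨by rw [e1]; exact ((α : MulAut E) ⟨g, hg⟩).2, ?_⟩
    rw [e1]
    exact Subtype.ext (by rw [hτ₀E, hαα])
  have hτ₀q : ∀ g : N, g⁻¹ * τ₀ g ∈ En := fun g => by
    refine (hχ1 _).1 ?_
    obtain ⟨h1, h2⟩ := hconjf g
    have e : χ (τ₀ g) = t * χ g * t⁻¹ := by
      rw [← hα]
      show ((nc (τ₀ g) : A) : A ⧸ I) = ((α * nc g * α⁻¹ : A) : A ⧸ I)
      exact congrArg _ (Subtype.ext h2)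
    rw [map_mul, map_inv, e, hlow, inv_mul_cancel]
  have hexpN : ∀ v ∈ En, v ^ p = 1 := fun v hv => Subtype.ext (by
    simpa using congrArg Subtype.val (hexp ⟨v, hv⟩))
  set τ := τ₀ ^ p with hτ
  have hτG : τ ∈ F.autGroup N := pow_mem hτ₀G p
  have hτq : ∀ g : N, g⁻¹ * τ g ∈ En := by
    suffices h : ∀ (i : ℕ) (g : N), g⁻¹ * (τ₀ ^ i) g ∈ En from h p
    intro i
    induction i with
    | zero => intro g; simp [one_mem]
    | succ i ih =>
      intro g
      rw [pow_succ', MulAut.mul_apply,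
        show g⁻¹ * τ₀ ((τ₀ ^ i) g) = g⁻¹ * τ₀ g * τ₀ (g⁻¹ * (τ₀ ^ i) g) by rw [map_mul, map_inv]; group]
      exact mul_mem (hτ₀q g) (hτ₀En _ (ih g)).1
  have hτE : ∀ g ∈ En, τ g = τ₀ g := by
    intro g hg
    obtain ⟨k, hk⟩ := hp.out.odd_of_ne_two hp2
    have : ∀ i : ℕ, (τ₀ ^ (2 * i)) g = g := by
      intro i
      induction i with
      | zero => simp
      | succ i ih => rw [show 2 * (i + 1) = 2 + 2 * i by ring, pow_add, MulAut.mul_apply, ih, pow_two,
          MulAut.mul_apply, (hτ₀En g hg).2]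
    rw [hτ, hk, pow_succ', MulAut.mul_apply, this]
  have hττ : ∀ g : N, τ (τ g) = g := by
    intro g
    rw [← MulAut.mul_apply, hτ, ← (Commute.refl τ₀).mul_pow]
    refine pow_fix (K := En) (fun w hw => (hτ₀En w hw).2) ?_ hexpN
    rw [MulAut.mul_apply, show g⁻¹ * τ₀ (τ₀ g) = g⁻¹ * τ₀ g * ((τ₀ g)⁻¹ * τ₀ (τ₀ g)) by group]
    exact mul_mem (hτ₀q g) (hτ₀q _)
  have hτval : ∀ e : E, ((τ ⟨e, hEN e.2⟩ : N) : Ω) = ((α : MulAut E) e : Ω) := fun e => by
    rw [hτE _ (show (⟨e, hEN e.2⟩ : N) ∈ En from e.2), hτ₀E]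
  have hαez : (α : MulAut E) ez = ez⁻¹ := Additive.ofMul.injective ((hαρ ez).trans htz)
  have hαec : (α : MulAut E) ec = ec := Additive.ofMul.injective ((hαρ ec).trans htc)
  have hτz : τ ezN = ezN⁻¹ := Subtype.ext ((hτval ez).trans (congrArg Subtype.val hαez))
  have hτc : τ ecN = ecN := Subtype.ext ((hτval ec).trans (congrArg Subtype.val hαec))
  have hautcen : ∀ (β : MulAut N), ∀ v ∈ W, β v ∈ W := fun β v hv => by
    rw [hWcen, mem_center_iff] at hv ⊢
    intro g
    obtain ⟨g, rfl⟩ := β.surjective g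
    rw [← map_mul, ← map_mul, hv g]
  have hAgen : W ⊔ zpowers x = An' :=
    PGroup.eq_sup_zpowers_of_card hNp inf_le_right (by rw [hA'c, hW2, ← pow_succ']) ha₀ (fun h => hxE h.1)
  obtain ⟨i₀, j₀, k₀, he⟩ := hdecN _ (hτq x)
  -- `τ` normalizes `L (n - 4)`
  have hxτW : x⁻¹ * τ x ∈ W := by
    by_contra hnW
    have hi₀ : ¬ p ∣ i₀ := by
      rintro ⟨m, rfl⟩
      rw [pow_mul, hexpN eaN ea.2, one_pow, one_mul] at he
      exact hnW (he ▸ mul_mem (pow_mem hezW j₀) (pow_mem hecW k₀))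
    -- an element of the normalizer of `N` outside `N`
    obtain ⟨g, hg, hgN⟩ : ∃ g ∈ normalizerIn S N, g ∉ N := by
      have hlt : N < S := lt_of_le_of_ne hNS fun h => by
        have h1 := hNle
        rw [h] at h1
        have := hScard.trans h1
        rw [Nat.pow_le_pow_iff_right hp.out.one_lt] at this
        omega
      exact SetLike.exists_of_lt (lt_normalizerIn hS le_rfl hlt)
    set γ := normConj S N ⟨g, hg⟩ with hγ
    have hγG : γ ∈ F.autGroup N := (Resist.normConj_mem F hNS _).2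
    have hγA : ∀ v ∈ An', γ v ∈ An' := fun v hv => hAnconj g hg.1 _ hv
    have hγp : ∃ k : ℕ, γ ^ p ^ k = 1 := by
      haveI : Finite (normalizerIn S N) := finite_of_le (S := S) inf_le_left
      obtain ⟨k, hk⟩ := (hS.to_le (inf_le_left : normalizerIn S N ≤ S)) ⟨g, hg⟩
      exact ⟨k, by rw [hγ, ← map_pow]; exact (congrArg (normConj S N) hk).trans (map_one _)⟩
    obtain ⟨kγ, hkγ⟩ := hγp
    have hγx : x⁻¹ * γ x ∈ W := EssentialSmall.mul_apply_mem_of_card_le hNp (inf_le_right : W ≤ An')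
      (by rw [hA'c, hW2, ← pow_succ']) hkγ (hautcen γ) hγA ha₀
    have hγa : eaN⁻¹ * γ eaN ∈ An' := EssentialSmall.mul_apply_mem_of_card_le hNp le_top
      (by rw [card_top, hN4, hA'c, ← pow_succ']) hkγ hγA (fun _ _ => mem_top _) (mem_top _)
    rw [← hAgen] at hγa
    obtain ⟨w₁, hw₁, y, ⟨μ, rfl⟩, hwy⟩ := mem_sup_of_normal_left.mp hγa
    let π := QuotientGroup.mk' W
    have hπ1 : ∀ {v : N}, v ∈ W → π v = 1 := fun hv => (QuotientGroup.eq_one_iff _).2 hv
    have hπW : ∀ {v : N}, π v = 1 → v ∈ W := fun hv => (QuotientGroup.eq_one_iff _).1 hv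
    have hπc : Commute (π eaN) (π x) := by
      rw [← commutatorElement_eq_one_iff_commute, ← map_commutatorElement]
      refine hπ1 ?_
      rw [← commutatorElement_inv]
      refine inv_mem ?_
      have e : ⁅x, eaN⁆ = ezN := Subtype.ext (by
        show a₀ * (ea : Ω) * a₀⁻¹ * (ea : Ω)⁻¹ = ez
        rw [hxa, hEab _ ea.2 _ ez.2, mul_inv_cancel_right])
      rw [e]; exact hezW
    have hπγa : π (γ eaN) = π eaN * π x ^ μ := by
      have h1 : γ eaN = eaN * (w₁ * x ^ μ) := by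
        rw [show w₁ * x ^ μ = eaN⁻¹ * γ eaN from hwy, mul_inv_cancel_left]
      rw [h1, map_mul, map_mul, hπ1 hw₁, one_mul, map_zpow]
    have hπγx : π (γ x) = π x := by
      have := hπ1 hγx
      rw [map_mul, map_inv, inv_mul_eq_one] at this
      exact this.symm
    have hμ : ¬ (p : ℤ) ∣ μ := by
      rintro ⟨m, rfl⟩
      rw [zpow_mul, zpow_natCast, ← map_pow, hAexp x ha₀, map_one, one_zpow, mul_one] at hπγa
      have hstab : ∀ v ∈ En, γ v ∈ En := by
        intro v hv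
        obtain ⟨i, j, k, rfl⟩ := hdecN v hv
        rw [map_mul, map_mul, map_pow, map_pow, map_pow]
        refine mul_mem (mul_mem (pow_mem ?_ i) (pow_mem (hautcen γ _ hezW).1 j)) (pow_mem (hautcen γ _ hecW).1 k)
        have h1 : eaN⁻¹ * γ eaN ∈ W := hπW (by rw [map_mul, map_inv, hπγa, inv_mul_cancel])
        have h2 := mul_mem (show eaN ∈ En from ea.2) h1.1
        rwa [mul_inv_cancel_left] at h2
      refine hgN (mem_normalizerIn.2 ⟨hg.1, fun v => ⟨fun hv => hstab ⟨v, hEN hv⟩ hv, fun hv => ?_⟩⟩)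
      obtain ⟨⟨y, hy⟩, e⟩ := (Finite.surjective_of_injective (f := fun y : En => (⟨γ y, hstab y y.2⟩ : En))
        fun a b e => Subtype.ext (γ.injective (congrArg Subtype.val e))) ⟨⟨g * v * g⁻¹, hEN hv⟩, hv⟩
      have e' : g * (y : Ω) * g⁻¹ = g * v * g⁻¹ := congrArg (fun w : En => ((w : N) : Ω)) e
      rw [← mul_left_cancel (mul_right_cancel e')]
      exact hy
    have hpow : ∀ i : ℕ, π ((γ ^ i) eaN) = π eaN * π x ^ (μ * i) := by
      intro i
      induction i with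
      | zero => simp
      | succ i ih =>
        have h1 : (eaN * x ^ (μ * i))⁻¹ * (γ ^ i) eaN ∈ W := hπW (by
          rw [map_mul, map_inv, map_mul, map_zpow, ih, inv_mul_cancel])
        have h2 := hπ1 (hautcen γ _ h1)
        rw [map_mul γ, map_inv γ, map_mul γ, map_zpow γ, map_mul, map_inv, map_mul, map_zpow, hπγx, hπγa,
          inv_mul_eq_one] at h2
        rw [pow_succ', MulAut.mul_apply, ← h2, mul_assoc, ← zpow_add]
        congr 2
        push_cast
        ring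
    obtain ⟨i, hi⟩ : ∃ i : ℕ, (p : ℤ) ∣ μ * i * i₀ - 1 := by
      have hne : ((μ * i₀ : ℤ) : ZMod p) ≠ 0 := by
        rw [Ne, ZMod.intCast_zmod_eq_zero_iff_dvd]
        intro h
        rcases (Nat.prime_iff_prime_int.1 hp.out).dvd_or_dvd h with h | h
        · exact hμ h
        · exact hi₀ (Int.natCast_dvd_natCast.1 h)
      refine ⟨(((μ * i₀ : ℤ) : ZMod p)⁻¹).val, ?_⟩
      rw [← ZMod.intCast_zmod_eq_zero_iff_dvd]
      push_cast
      rw [ZMod.natCast_zmod_val, mul_right_comm]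
      push_cast at hne
      rw [mul_inv_cancel₀ hne, sub_self]
    obtain ⟨m, hm⟩ := hi
    have hτx : τ x ∈ En.map (γ ^ i).toMonoidHom := by
      have h1 : π ((γ ^ i) (eaN ^ i₀)) = π (τ x) := by
        rw [map_pow (γ ^ i), map_pow, hpow, (hπc.zpow_right _).mul_pow, ← zpow_natCast (π x ^ (μ * i)), ← zpow_mul,
          show μ * i * (i₀ : ℤ) = 1 + p * m by omega, zpow_add, zpow_one, zpow_mul (π x), zpow_natCast, ← map_pow π x,
          hAexp x ha₀, map_one, one_zpow, mul_one, (hπc.pow_left i₀).eq,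
          show τ x = x * (x⁻¹ * τ x) by group, he, map_mul, map_mul, map_mul, map_pow, map_pow, map_pow, hπ1 hezW,
          hπ1 hecW, one_pow, one_pow, mul_one, mul_one]
      have h2 : ((γ ^ i) (eaN ^ i₀))⁻¹ * τ x ∈ W := hπW (by rw [map_mul, map_inv, h1, inv_mul_cancel])
      have h3 : ∀ v ∈ W, v ∈ En.map (γ ^ i).toMonoidHom := fun v hv => by
        refine ⟨(γ ^ i)⁻¹ v, (hautcen _ v hv).1, ?_⟩
        exact MulAut.apply_inv_self N (γ ^ i) v
      have h4 := mul_mem (Subgroup.mem_map_of_mem (γ ^ i).toMonoidHom (pow_mem (show eaN ∈ En from ea.2) i₀)) (h3 _ h2)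
      rwa [show (γ ^ i).toMonoidHom (eaN ^ i₀) = (γ ^ i) (eaN ^ i₀) from rfl, mul_inv_cancel_left] at h4
    set β := τ⁻¹ * γ ^ i with hβ
    have hβG : β ∈ F.autGroup N := mul_mem (inv_mem hτG) (pow_mem hγG i)
    have hmap : An'.map τ.toMonoidHom = En.map (γ ^ i).toMonoidHom := by
      refine Subgroup.eq_of_le_of_card_ge ?_ ?_
      · rw [← hAgen, Subgroup.map_sup, MonoidHom.map_zpowers]
        refine sup_le ?_ (zpowers_le.mpr hτx)
        rintro _ ⟨v, hv, rfl⟩
        exact ⟨(γ ^ i)⁻¹ (τ v), (hautcen _ _ (hautcen τ v hv)).1, MulAut.apply_inv_self N (γ ^ i) _⟩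
      · rw [card_map_of_injective (γ ^ i).injective, card_map_of_injective τ.injective, hEnc, hA'c]
    have hβmem : ∀ v ∈ En, β v ∈ An' := fun v hv => by
      obtain ⟨w, hw, e⟩ := hmap.ge (Subgroup.mem_map_of_mem (γ ^ i).toMonoidHom hv)
      rw [hβ, MulAut.mul_apply]
      rw [show (γ ^ i) v = τ w from e.symm, MulAut.inv_apply_self]
      exact hw
    have hmapE : IsMap F E (autFn β) := ((mem_autGroup_iff hNS).1 hβG).mono hEN
    have himg : img (autFn β) E = An S n := by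
      refine eq_of_le_of_card An_le (hmapE.img_le le_rfl fun v hv => ?_) ?_
      · rw [autFn_apply β (hEN hv)]
        exact hβmem ⟨v, hEN hv⟩ hv
      · rw [hmapE.card_img le_rfl, hE3, hA3]
    have hle := hfn.2 (An S n) (isConj_iff.2 ⟨_, hmapE, himg⟩)
    rw [normalizerIn_An, ← hN, hN4] at hle
    have := hScard.trans hle
    rw [Nat.pow_le_pow_iff_right hp.out.one_lt] at this
    omega
  have hτAn : ∀ v ∈ An', τ v ∈ An' := by
    intro v hv
    rw [← hAgen] at hv ⊢
    obtain ⟨w, hw, _, ⟨k, rfl⟩, rfl⟩ := mem_sup_of_normal_left.mp hv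
    show τ (w * x ^ k) ∈ _
    rw [map_mul, map_zpow]
    refine mul_mem (mem_sup_left (hautcen τ w hw)) (zpow_mem ?_ k)
    rw [show τ x = x * (x⁻¹ * τ x) by group]
    exact mul_mem (mem_sup_right (mem_zpowers x)) (mem_sup_left hxτW)
  -- restrict to `L (n - 4)`
  haveI := finite_of_le (S := S) (An_le (S := S) (n := n))
  let q : An S n → N := fun v => ⟨v, hAN v.2⟩
  let αA : MulAut (An S n) := MulEquiv.ofBijective
    (MonoidHom.mk' (fun v : An S n => (⟨(τ (q v) : N), hτAn (q v) v.2⟩ : An S n))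
      fun a b => Subtype.ext (by
        show ((τ (q a * q b) : N) : Ω) = _
        rw [map_mul]; rfl))
    (Finite.injective_iff_bijective.1 fun a b h => Subtype.ext
      (congrArg Subtype.val (τ.injective (show τ (q a) = τ (q b) from
        Subtype.ext (show ((τ (q a) : N) : Ω) = ((τ (q b) : N) : Ω) from congrArg (fun v : An S n => (v : Ω)) h))) :))
  have hαA : αA ∈ F.autGroup (An S n) := (mem_autGroup_iff An_le).2 ((((mem_autGroup_iff hNS).1 hτG).mono hAN).congr
    fun y hy => by rw [autFn_apply τ (hAN hy), autFn_apply αA hy]; rfl)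
  set z₁ : An S n := ⟨ez, hezW.2⟩ with hz₁
  set e₁ : An S n := ⟨ec, hecW.2⟩ with he₁
  have hinjq : Function.Injective q := fun a b h => Subtype.ext (congrArg Subtype.val h :)
  have hαq : ∀ v, q (αA v) = τ (q v) := fun v => Subtype.ext rfl
  have hqmul : ∀ a b, q (a * b) = q a * q b := fun a b => rfl
  have hAcomm : ∀ a b : An S n, Commute a b := fun a b => Subtype.ext (hAab _ a.2 _ b.2)
  have hαAz : αA z₁ = z₁⁻¹ := hinjq ((hαq z₁).trans (hτz.trans (Subtype.ext rfl)))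
  have hαAc : αA e₁ = e₁ := hinjq ((hαq e₁).trans hτc)
  have hAexp' : ∀ v : An S n, v ^ p = 1 := fun v =>
    Subtype.ext (by simpa using congrArg Subtype.val (hAexp (q v) v.2))
  -- `τ` moves `x` inside the line of `z₁`
  obtain ⟨j₁, k₁, hw⟩ := hWdec _ hxτW
  set x₁ : An S n := ⟨a₀, ha₀⟩ with hx₁
  have hαx : αA x₁ = x₁ * (z₁ ^ j₁ * e₁ ^ k₁) := hinjq ((hαq x₁).trans (by
    show τ x = _
    rw [show τ x = x * (x⁻¹ * τ x) by group, hw]
    exact Subtype.ext (by simp [q, x, ezN, ecN, z₁, e₁, x₁])))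
  have hαA2 : ∀ v, αA (αA v) = v := fun v => hinjq (by rw [hαq, hαq, hττ])
  have hk₁ : e₁ ^ k₁ = 1 := by
    have h := hαA2 x₁
    rw [hαx, map_mul, hαx, map_mul, map_pow, map_pow, hαAz, hαAc, mul_assoc, mul_eq_left, inv_pow,
      (hAcomm ((z₁ ^ j₁)⁻¹) (e₁ ^ k₁)).eq, mul_assoc, ← mul_assoc (e₁ ^ k₁), (hAcomm (e₁ ^ k₁ * e₁ ^ k₁) _).eq,
      mul_inv_cancel_left] at h
    exact Subgroup.mem_bot.1 (mem_of_sq_mem (hS.to_le An_le) hp2 (H := (⊥ : Subgroup (An S n)))
      (show e₁ ^ k₁ * e₁ ^ k₁ ∈ _ by rw [h]; exact one_mem _))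
  let δ : An S n →* An S n := MonoidHom.mk' (fun v => αA v * v⁻¹) fun a b => by
    rw [map_mul, mul_inv_rev, mul_assoc, ← mul_assoc (αA b), (hAcomm (αA b * b⁻¹) a⁻¹).eq, mul_assoc]
  have hδ : ∀ v, δ v ∈ zpowers z₁ := by
    intro v
    obtain ⟨w, hw, _, ⟨k, rfl⟩, hv⟩ := mem_sup_of_normal_left.mp (hAgen.ge (show q v ∈ An' from v.2))
    obtain ⟨j, l, rfl⟩ := hWdec w hw
    have hv' : v = z₁ ^ j * e₁ ^ l * x₁ ^ k := hinjq (hv.symm.trans (Subtype.ext (by simp [q, x, ezN, ecN, z₁, e₁, x₁])))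
    rw [hv', map_mul, map_mul, map_pow, map_pow, map_zpow]
    refine mul_mem (mul_mem (pow_mem ?_ j) (pow_mem ?_ l)) (zpow_mem ?_ k) <;> show αA _ * _ ∈ _
    · rw [hαAz]; exact mul_mem (inv_mem (mem_zpowers z₁)) (inv_mem (mem_zpowers z₁))
    · rw [hαAc, mul_inv_cancel]; exact one_mem _
    · rw [hαx, hk₁, mul_one, (hAcomm x₁ _).eq, mul_inv_cancel_right]
      exact pow_mem (mem_zpowers z₁) j₁
  have hz1K : z₁ ∈ Kn S n (n - 3) := by
    have e : iAn S n z₁ = ⁅(⟨ea, hES ea.2⟩ : S)⁻¹, ⟨a₀, An_le ha₀⟩⁆ := Subtype.ext (by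
      show (ez : Ω) = (ea : Ω)⁻¹ * a₀ * (ea : Ω)⁻¹⁻¹ * a₀⁻¹
      rw [inv_inv, mul_assoc ((ea : Ω)⁻¹), mul_assoc, hxa, inv_mul_cancel_left])
    rw [mem_Kn, e]
    exact comm_L_mem (by omega) (mem_L_zero _) (iAn_mem (⟨a₀, ha₀⟩ : An S n))
  refine false_of_reflection hp5 hn5 hS hF c hαA (z₁ := z₁) (e₁ := e₁)
    ⟨fun h => hezne (congrArg Subtype.val h), hαA2, hαAz, hαAc, hδ⟩ hz1K (fun v hv => ?_) ?_
  · have hvE : (v : Ω) ∈ E := hcen _ (An_le v.2) fun e he =>
      congrArg Subtype.val (c.commute_of_mem hv ⟨e, hES he⟩).eq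
    obtain ⟨j, l, h⟩ := hWdec (q v) ⟨hvE, v.2⟩
    refine ⟨j, l, hinjq ?_⟩
    rw [zpow_natCast, zpow_natCast, h]
    exact Subtype.ext (by simp [q, ezN, ecN, z₁, e₁])
  · intro hz he₁K hT
    -- then `ea` centralizes `L (n - 3)`
    let eaS : S := ⟨ea, hES ea.2⟩
    let a₀S : S := ⟨a₀, An_le ha₀⟩
    have h1 : eaS ∈ twoStep S (n - 3) := by
      refine c.mem_twoStep_of (by omega) hz1K ?_ ?_
      · rw [show n - 3 + 1 = n - 2 by omega]; exact hz
      · rw [show ⁅eaS, iAn S n z₁⁆ = 1 from commutatorElement_eq_one_iff_mul_comm.2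
          (Subtype.ext (hEab _ ea.2 _ ez.2))]
        exact one_mem _
    rw [← hT] at h1
    have h2 : ⁅eaS, a₀S⁆ ∈ L S (n - 2) := by
      have := mem_twoStep.mp h1 a₀S (iAn_mem (⟨a₀, ha₀⟩ : An S n))
      rwa [show n - 4 + 2 = n - 2 by omega] at this
    refine hz ?_
    have e : iAn S n z₁ = (eaS⁻¹ * ⁅eaS, a₀S⁆ * eaS⁻¹⁻¹)⁻¹ := Subtype.ext (by
      show (ez : Ω) = ((ea : Ω)⁻¹ * ((ea : Ω) * a₀ * (ea : Ω)⁻¹ * a₀⁻¹) * (ea : Ω)⁻¹⁻¹)⁻¹
      rw [show ((ea : Ω)⁻¹ * ((ea : Ω) * a₀ * (ea : Ω)⁻¹ * a₀⁻¹) * (ea : Ω)⁻¹⁻¹)⁻¹ = (ea : Ω)⁻¹ * (a₀ * ea * a₀⁻¹) by group,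
        hxa, inv_mul_cancel_left])
    rw [mem_Kn, e]
    exact inv_mem ((inferInstance : (L S (n - 2)).Normal).conj_mem _ h2 _)

end Cfsg.Agent.MaxClassPower
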