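import Cfsg.Agent.Lib.MaxClass.TwoStep

/-!
# The degree of commutativity of a p-group of maximal class

`Mc.twoStep_const` : in a group of order `p ^ n` and class `n - 1` the two-step centralizers
`twoStep X k`, `1 ≤ k ≤ n - 4`, coincide, and so does `twoStep X (n - 3)` when `n` is odd.
-/

set_option autoImplicit false
set_option linter.unusedSectionVars false

open Subgroup
open scoped commutatorElement Pointwise

universe u

namespace Cfsg.Agent.MaxClassPower

open PearlRank
open PearlRank.Pc (D D_mem)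

variable {X : Type u} [Group X]

/-- The layers multiply. -/
theorem comm_L_mem {i j k : ℕ} (hk : k ≤ i + j + 1) {g u : X} (hg : g ∈ L X i) (hu : u ∈ L X j) :
    ⁅g, u⁆ ∈ L X k := by
  have h := (PolySeq.isFiltration_lowerCentralSeries (G := X)).comm (i + 1) (j + 1)
    (commutator_mem_commutator (g₁ := g) (g₂ := u) (show g ∈ PolySeq.lcsFil X (i + 1) by simpa [PolySeq.lcsFil] using hg)
      (show u ∈ PolySeq.lcsFil X (j + 1) by simpa [PolySeq.lcsFil] using hu))
  exact Subgroup.lowerCentralSeries_antitone _ hk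
    (by simpa [PolySeq.lcsFil, show i + 1 + (j + 1) - 1 = i + j + 1 by omega] using h)

theorem mem_L_zero (g : X) : g ∈ L X 0 := by simp [L]

/-- Conjugation expands a commutator. -/
theorem rel_conj {G : Type*} [Group G] {a b c d s : G} (ha : s * a * s⁻¹ = a * b) (hc : s * c * s⁻¹ = c * d)
    (h1 : Commute a ⁅b, c⁆) (h2 : Commute c ⁅a, d⁆) (h3 : ⁅b, d⁆ = 1) (h4 : Commute ⁅b, c⁆ ⁅a, c⁆) :
    ⁅b, c⁆ * ⁅a, d⁆ = D s ⁅a, c⁆ := by
  have e : s * ⁅a, c⁆ * s⁻¹ = ⁅b, c⁆ * (⁅a, c⁆ * ⁅a, d⁆) := by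
    rw [conjugate_commutatorElement, ha, hc]
    have e1 : ⁅a * b, c * d⁆ = a * (⁅b, c⁆ * (c * ⁅b, d⁆ * c⁻¹)) * a⁻¹ * (⁅a, c⁆ * (c * ⁅a, d⁆ * c⁻¹)) := by
      simp only [commutatorElement_def]; group
    rw [e1, h3, mul_one, mul_inv_cancel, mul_one, h1.eq, mul_inv_cancel_right, h2.eq, mul_inv_cancel_right]
  show _ = ⁅a, c⁆⁻¹ * (s * ⁅a, c⁆ * s⁻¹)
  rw [e, ← mul_assoc, ← mul_assoc, (h4.inv_right).eq.symm, mul_assoc ⁅b, c⁆, inv_mul_cancel, mul_one]

variable [Finite X] {p n : ℕ} [hp : Fact p.Prime]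

namespace Mc

variable (c : Mc X p n)

include c

theorem mem_center_of {u : X} (hu : u ∈ L X (n - 2)) : u ∈ center X := by
  have hn := c.three_le
  rw [mem_center_iff]
  intro g
  refine (commutatorElement_eq_one_iff_mul_comm.mp ?_).symm
  have h1 : ⁅u, g⁆ ∈ L X (n - 2 + 1) := commutator_mem_commutator hu (mem_top g)
  rwa [c.L_bot (by omega), mem_bot] at h1

theorem commute_of_mem {u : X} (hu : u ∈ L X (n - 2)) (g : X) : Commute g u :=
  mem_center_iff.mp (c.mem_center_of hu) g

theorem pow_eq_one_of_mem {u : X} (hu : u ∈ L X (n - 2)) : u ^ p = 1 := by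
  have hn := c.three_le
  have h := orderOf_dvd_natCard (⟨u, hu⟩ : L X (n - 2))
  rw [c.card_L (by omega), show n - 1 - (n - 2) = 1 by omega, pow_one, orderOf_dvd_iff_pow_eq_one] at h
  exact congrArg Subtype.val h

theorem card_twoStep {i : ℕ} (hi : 1 ≤ i) (hin : i ≤ n - 3) : Nat.card (twoStep X i) = p ^ (n - 1) := by
  have hn := c.three_le
  have h1 := (twoStep X i).card_mul_index
  rw [c.card] at h1
  obtain ⟨j, hj⟩ := IsPGroup.iff_card.mp (c.pGroup.to_subgroup (twoStep X i))
  have hlt : j < n := (Nat.pow_lt_pow_iff_right hp.out.one_lt).mp (by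
    rw [← hj, ← c.card]
    exact lt_of_le_of_ne (Subgroup.card_le_card_group _)
      (fun he => c.twoStep_ne_top hi hin (Subgroup.eq_top_of_card_eq _ he)))
  have h2 := c.twoStep_index_le hi hin
  have h3 : p ^ n ≤ p ^ j * p := by rw [← h1, hj]; exact Nat.mul_le_mul_left _ h2
  rw [← pow_succ] at h3
  have := (Nat.pow_le_pow_iff_right hp.out.one_lt).mp h3
  rw [hj, show j = n - 1 by omega]

/-- A two-step centralizer is generated by `L₁` and any further element of it. -/
theorem gen_twoStep {i : ℕ} (hi : 1 ≤ i) (hin : i ≤ n - 3) {g : X} (hg : g ∈ twoStep X i) (hg1 : g ∉ L X 1) :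
    L X 1 ⊔ zpowers g = twoStep X i := by
  have hn := c.three_le
  refine PGroup.eq_of_le_of_card_le (sup_le (L_one_le_twoStep i) (zpowers_le.mpr hg)) ?_
  rw [c.card_twoStep hi hin]
  have := PGroup.mul_card_le_of_lt c.pGroup
    (left_lt_sup.2 fun h => hg1 (h (mem_zpowers g)) : L X 1 < L X 1 ⊔ zpowers g)
  rwa [c.card_L le_rfl, ← pow_succ', show n - 1 - 1 + 1 = n - 1 by omega] at this

theorem twoStep_eq_of_mem {i j : ℕ} (hi : 1 ≤ i) (hin : i ≤ n - 3) (hj : 1 ≤ j) (hjn : j ≤ n - 3) {g : X}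
    (hg : g ∈ twoStep X i) (hg' : g ∈ twoStep X j) (hg1 : g ∉ L X 1) : twoStep X i = twoStep X j := by
  rw [← c.gen_twoStep hi hin hg hg1, ← c.gen_twoStep hj hjn hg' hg1]

theorem exists_mem_twoStep {i : ℕ} (hi : 1 ≤ i) (hin : i ≤ n - 3) : ∃ g ∈ twoStep X i, g ∉ L X 1 := by
  have hn := c.three_le
  refine SetLike.not_le_iff_exists.mp fun h => ?_
  have := Subgroup.card_le_of_le h
  rw [c.card_twoStep hi hin, c.card_L le_rfl] at this
  have := (Nat.pow_le_pow_iff_right hp.out.one_lt).mp this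
  omega

/-- An element with centralizer of order `p ^ 2` lies in no two-step centralizer. -/
theorem not_mem_twoStep {s : X} (hs : Gd X p n s) {i : ℕ} (hi : 1 ≤ i) (hin : i ≤ n - 3) :
    s ∉ twoStep X i := by
  intro h
  have hn := c.three_le
  obtain ⟨u, hu, hu'⟩ := SetLike.not_le_iff_exists.mp (c.L_lt hi (by omega))
  refine hs.D_sharp hi (by omega) hu hu' ?_
  have e : D s u = u⁻¹ * ⁅s, u⁆ * u⁻¹⁻¹ := by simp [D, commutatorElement_def]; group
  rw [e]
  exact (inferInstance : (L X (i + 2)).Normal).conj_mem _ (mem_twoStep.mp h u hu) _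

/-- The commutator subgroup is `⁅twoStep X i, X⁆`. -/
theorem L_one_le_comm {i : ℕ} (hi : 1 ≤ i) (hin : i ≤ n - 3) :
    L X 1 ≤ ⁅twoStep X i, (⊤ : Subgroup X)⁆ := by
  have hn := c.three_le
  haveI : (twoStep X i).Normal := Subgroup.Normal.of_commutator_le _ (by
    have h := L_one_le_twoStep (X := X) i
    rwa [L, Subgroup.top_lowerCentralSeries_one] at h)
  obtain ⟨s, hs⟩ := c.exists_good
  set K := ⁅twoStep X i, (⊤ : Subgroup X)⁆
  let π := QuotientGroup.mk' K
  have hcen : ∀ a ∈ twoStep X i, ∀ g : X, Commute (π a) (π g) := fun a ha g => by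
    rw [← commutatorElement_eq_one_iff_commute, ← map_commutatorElement]
    exact (QuotientGroup.eq_one_iff _).2 (commutator_mem_commutator ha (mem_top g))
  have hgen : ∀ g : X, ∃ a ∈ twoStep X i, ∃ j : ℤ, g = a * s ^ j := by
    intro g
    have htop : twoStep X i ⊔ zpowers s = ⊤ := by
      refine PGroup.eq_of_le_of_card_le le_top ?_
      have := PGroup.mul_card_le_of_lt c.pGroup
        (left_lt_sup.2 fun h => c.not_mem_twoStep hs hi hin (h (mem_zpowers s)) :
          twoStep X i < twoStep X i ⊔ zpowers s)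
      rwa [c.card_twoStep hi hin, ← pow_succ', show n - 1 + 1 = n by omega, ← c.card,
        ← card_top (G := X)] at this
    have hg : g ∈ ((twoStep X i : Set X) * (zpowers s : Set X)) := by
      rw [← Subgroup.normal_mul, htop]; trivial
    obtain ⟨a, ha, _, ⟨j, rfl⟩, rfl⟩ := Set.mem_mul.mp hg
    exact ⟨a, ha, j, rfl⟩
  show (⊤ : Subgroup X).lowerCentralSeries 1 ≤ K
  rw [Subgroup.top_lowerCentralSeries_one, _root_.commutator_def, commutator_le]
  intro g _ h _
  obtain ⟨a, ha, j, rfl⟩ := hgen g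
  obtain ⟨b, hb, k, rfl⟩ := hgen h
  rw [← QuotientGroup.eq_one_iff]
  show π ⁅a * s ^ j, b * s ^ k⁆ = 1
  rw [map_commutatorElement, commutatorElement_eq_one_iff_commute, map_mul, map_mul]
  exact ((hcen a ha b).mul_right (hcen a ha _)).mul_left
    ((hcen b hb _).symm.mul_right ((((Commute.refl s).zpow_zpow j k)).map π))

/-- If the first two-step centralizers coincide, the degree of commutativity is positive. -/
theorem comm_L_le_of_const {N : ℕ} (hn : 4 ≤ n)
    (hN : ∀ u, 1 ≤ u → u ≤ N → twoStep X u = twoStep X 1) :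
    ∀ t u, 1 ≤ t → 1 ≤ u → t + u ≤ N → ⁅L X t, L X u⁆ ≤ L X (t + u + 2) := by
  have rot : ∀ (A B K : Subgroup X) [K.Normal], ⁅⁅(⊤ : Subgroup X), B⁆, A⁆ ≤ K →
      ⁅⁅B, A⁆, (⊤ : Subgroup X)⁆ ≤ K → ⁅⁅A, (⊤ : Subgroup X)⁆, B⁆ ≤ K := by
    intro A B K _ h1 h2
    have key : ∀ H : Subgroup X, H ≤ K ↔ H.map (QuotientGroup.mk' K) = ⊥ := fun H => by
      rw [Subgroup.map_eq_bot_iff, QuotientGroup.ker_mk']
    rw [key, map_commutator, map_commutator] at h1 h2 ⊢
    exact commutator_commutator_eq_bot_of_rotate h1 h2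
  have hM : ∀ u, 1 ≤ u → u ≤ N → ⁅twoStep X 1, L X u⁆ ≤ L X (u + 2) := fun u h1 h2 => by
    rw [commutator_le]
    intro g hg x hx
    exact mem_twoStep.mp (hN u h1 h2 ▸ hg) x hx
  intro t
  induction t with
  | zero => intro u h; omega
  | succ t ih =>
    intro u _ hu htu
    -- `A` is `L t`, or the two-step centralizer for `t = 0`
    obtain ⟨A, hA1, hA2⟩ : ∃ A : Subgroup X, L X (t + 1) ≤ ⁅A, (⊤ : Subgroup X)⁆ ∧
        ∀ v, 1 ≤ v → t + v ≤ N → ⁅A, L X v⁆ ≤ L X (t + v + 2) := by
      rcases Nat.eq_zero_or_pos t with rfl | ht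
      · exact ⟨_, c.L_one_le_comm le_rfl (by omega), fun v h1 h2 => by simpa using hM v h1 (by omega)⟩
      · exact ⟨_, le_rfl, fun v h1 h2 => ih v ht h1 h2⟩
    refine (commutator_mono hA1 le_rfl).trans (rot A (L X u) _ ?_ ?_)
    · rw [commutator_comm (⊤ : Subgroup X), commutator_comm]
      exact (hA2 (u + 1) (by omega) (by omega)).trans (Subgroup.lowerCentralSeries_antitone _ (by omega))
    · rw [commutator_comm (L X u) A]
      refine (commutator_mono (hA2 u hu (by omega)) le_rfl).trans ?_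
      show L X (t + u + 2 + 1) ≤ _
      exact Subgroup.lowerCentralSeries_antitone _ (by omega)

/-- The standard sequence of representatives of the layers. -/
theorem exists_seq (hn : 4 ≤ n) {s : X} (hs : Gd X p n s) :
    ∃ x : ℕ → X, x 0 ∈ twoStep X 1 ∧ x 0 ∉ L X 1 ∧ (∀ t, x t ∈ L X t) ∧
      (∀ t, 1 ≤ t → t ≤ n - 2 → x t ∉ L X (t + 1)) ∧ ∀ t, s * x t * s⁻¹ = x t * x (t + 1) := by
  obtain ⟨x₀, h0, h01⟩ := c.exists_mem_twoStep (i := 1) le_rfl (by omega)
  let x : ℕ → X := fun t => (D s)^[t] x₀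
  have hsucc : ∀ t, x (t + 1) = D s (x t) := fun t => Function.iterate_succ_apply' _ _ _
  have hmem : ∀ t, x t ∈ L X t := by
    intro t
    induction t with
    | zero => exact mem_L_zero _
    | succ t ih => rw [hsucc]; exact D_mem ih
  refine ⟨x, h0, h01, hmem, ?_, fun t => by rw [hsucc]; simp [D]⟩
  intro t ht
  induction t, ht using Nat.le_induction with
  | base =>
    intro _ h
    -- otherwise `X / L₂` is abelian
    refine c.L_lt le_rfl (by omega) ((c.L_one_le_comm le_rfl (by omega)).trans ?_)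
    let π := QuotientGroup.mk' (L X 2)
    have hT : ∀ a ∈ L X 1, ∀ g : X, Commute (π a) (π g) := fun a ha g => by
      rw [← commutatorElement_eq_one_iff_commute, ← map_commutatorElement]
      exact (QuotientGroup.eq_one_iff _).2 (commutator_mem_commutator ha (mem_top g))
    have hsx : Commute (π s) (π x₀) := by
      have h1 : π (D s x₀) = 1 := (QuotientGroup.eq_one_iff _).2 (by rw [hsucc] at h; exact h)
      simp only [D, map_mul, map_inv] at h1
      rw [inv_mul_eq_one, eq_mul_inv_iff_mul_eq] at h1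
      exact h1.symm
    have hall : ∀ g : X, Commute (π x₀) (π g) := by
      have hle : (⊤ : Subgroup X) ≤ (centralizer {π x₀}).comap π := by
        have htop : twoStep X 1 ⊔ zpowers s = ⊤ := by
          refine PGroup.eq_of_le_of_card_le le_top ?_
          have := PGroup.mul_card_le_of_lt c.pGroup
            (left_lt_sup.2 fun h => c.not_mem_twoStep hs le_rfl (by omega) (h (mem_zpowers s)) :
              twoStep X 1 < twoStep X 1 ⊔ zpowers s)
          rwa [c.card_twoStep le_rfl (by omega), ← pow_succ', show n - 1 + 1 = n by omega, ← c.card,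
            ← card_top (G := X)] at this
        refine htop.ge.trans ?_
        rw [← c.gen_twoStep le_rfl (by omega) h0 h01]
        refine sup_le (sup_le (fun a ha => ?_) (zpowers_le.mpr ?_)) (zpowers_le.mpr ?_) <;>
          rw [mem_comap, mem_centralizer_singleton_iff]
        · exact (hT a ha x₀).eq
        · exact hsx.eq
      intro g
      exact (mem_centralizer_singleton_iff.mp (hle (mem_top g))).symm
    have hMc : twoStep X 1 ≤ (center (X ⧸ L X 2)).comap π := by
      rw [← c.gen_twoStep le_rfl (by omega) h0 h01]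
      refine sup_le (fun a ha => ?_) (zpowers_le.mpr ?_) <;>
        · rw [mem_comap, mem_center_iff]
          intro q
          obtain ⟨g, rfl⟩ := QuotientGroup.mk'_surjective _ q
          first
            | exact ((hT a ha g).eq).symm
            | exact ((hall g).eq).symm
    rw [commutator_le]
    intro a ha g _
    rw [← QuotientGroup.eq_one_iff]
    show π ⁅a, g⁆ = 1
    rw [map_commutatorElement, commutatorElement_eq_one_iff_mul_comm]
    exact (mem_center_iff.mp (hMc ha) (π g)).symm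
  | succ t ht ih =>
    intro htn
    rw [hsucc]
    exact hs.D_sharp ht (by omega) (hmem t) (ih (by omega))

theorem twoStep_penult (hodd : Odd n) (h5 : 5 ≤ n)
    (hk : ∀ k, 1 ≤ k → k ≤ n - 4 → twoStep X k = twoStep X 1) : twoStep X (n - 3) = twoStep X 1 := by
  obtain ⟨k, rfl⟩ := hodd
  obtain ⟨s, hs⟩ := c.exists_good
  obtain ⟨x, h0, h01, hmem, hnot, hcj⟩ := c.exists_seq (by omega) hs
  have hdeg := c.comm_L_le_of_const (by omega) hk
  set m := 2 * k + 1 - 3 with hm
  have hcen : ∀ t u, t + u + 1 = m → ⁅x t, x u⁆ ∈ L X (m + 1) := by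
    intro t u htu
    rcases Nat.eq_zero_or_pos t with rfl | ht
    · exact Subgroup.lowerCentralSeries_antitone _ (by omega)
        (mem_twoStep.mp (hk u (by omega) (by omega) ▸ h0) _ (hmem u))
    rcases Nat.eq_zero_or_pos u with rfl | hu
    · rw [← commutatorElement_inv]
      exact inv_mem (Subgroup.lowerCentralSeries_antitone _ (by omega)
        (mem_twoStep.mp (hk t (by omega) (by omega) ▸ h0) _ (hmem t)))
    exact Subgroup.lowerCentralSeries_antitone _ (by omega)
      (hdeg t u ht hu (by omega) (commutator_mem_commutator (hmem t) (hmem u)))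
  have hm2 : m + 1 = 2 * k + 1 - 2 := by omega
  have hrel : ∀ t u, t + u + 1 = m → ⁅x (t + 1), x u⁆ * ⁅x t, x (u + 1)⁆ = 1 := by
    intro t u htu
    have hac := hcen t u htu
    rw [hm2] at hac
    rw [rel_conj (hcj t) (hcj u) (c.commute_of_mem (comm_L_mem (by omega) (hmem _) (hmem _)) _)
      (c.commute_of_mem (comm_L_mem (by omega) (hmem _) (hmem _)) _) ?_ (c.commute_of_mem hac _)]
    · show ⁅x t, x u⁆⁻¹ * (s * ⁅x t, x u⁆ * s⁻¹) = 1
      rw [(c.commute_of_mem hac s).eq, mul_inv_cancel_right, inv_mul_cancel]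
    · have h := comm_L_mem (k := 2 * k + 1 - 1) (by omega) (hmem (t + 1)) (hmem (u + 1))
      rwa [c.L_bot le_rfl, mem_bot] at h
  have hzero : ∀ d t, t + d = k - 1 → ⁅x t, x (m - t)⁆ = 1 := by
    intro d
    induction d with
    | zero =>
      intro t ht
      rw [show m - t = t by omega, commutatorElement_self]
    | succ d ih =>
      intro t ht
      have h1 := ih (t + 1) (by omega)
      have h2 := hrel t (m - (t + 1)) (by omega)
      rwa [h1, one_mul, show m - (t + 1) + 1 = m - t by omega] at h2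
  have h := hzero (k - 1) 0 (by omega)
  rw [Nat.sub_zero] at h
  exact c.twoStep_eq_of_mem (by omega) le_rfl le_rfl (by omega)
    (c.mem_twoStep_of (by omega) (hmem m) (hnot m (by omega) (by omega)) (by rw [h]; exact one_mem _)) h0 h01

theorem twoStep_antepenult (hodd : Odd n) (h7 : 7 ≤ n) (hnp : n - 3 ≤ p)
    (hk : ∀ k, 1 ≤ k → k ≤ n - 5 → twoStep X k = twoStep X 1) : twoStep X (n - 4) = twoStep X 1 := by
  obtain ⟨j, rfl⟩ := hodd
  obtain ⟨s, hs⟩ := c.exists_good
  obtain ⟨x, h0, h01, hmem, hnot, hcj⟩ := c.exists_seq (by omega) hs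
  have hdeg := c.comm_L_le_of_const (by omega) hk
  set m := 2 * j + 1 - 4 with hm
  have hC : ∀ t, t ≤ m → ⁅x t, x (m - t)⁆ ∈ L X (m + 1) := fun t ht => comm_L_mem (by omega) (hmem _) (hmem _)
  by_cases hC0 : ⁅x 0, x m⁆ ∈ L X (m + 2)
  · exact c.twoStep_eq_of_mem (by omega) (by omega) le_rfl (by omega)
      (c.mem_twoStep_of (by omega) (hmem m) (hnot m (by omega) (by omega)) hC0) h0 h01
  exfalso
  let π := QuotientGroup.mk' (L X (m + 2))
  have hπc : ∀ {w : X}, w ∈ L X (m + 1) → ∀ g : X, Commute (π g) (π w) := fun {w} hw g => by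
    symm
    rw [← commutatorElement_eq_one_iff_commute, ← map_commutatorElement]
    exact (QuotientGroup.eq_one_iff _).2 (comm_L_mem (by omega) hw (mem_L_zero g))
  -- consecutive values are inverse to each other
  have hrel : ∀ t, t < m → ⁅x (t + 1), x (m - (t + 1))⁆ * ⁅x t, x (m - t)⁆ ∈ L X (m + 2) := by
    intro t ht
    obtain ⟨u, hu⟩ : ∃ u, t + u + 1 = m := ⟨m - t - 1, by omega⟩
    have hac : ⁅x t, x u⁆ ∈ L X (m + 1) := by
      rcases Nat.eq_zero_or_pos t with rfl | ht
      · exact Subgroup.lowerCentralSeries_antitone _ (by omega)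
          (mem_twoStep.mp (hk u (by omega) (by omega) ▸ h0) _ (hmem u))
      rcases Nat.eq_zero_or_pos u with rfl | hu
      · rw [← commutatorElement_inv]
        exact inv_mem (Subgroup.lowerCentralSeries_antitone _ (by omega)
          (mem_twoStep.mp (hk t (by omega) (by omega) ▸ h0) _ (hmem t)))
      exact Subgroup.lowerCentralSeries_antitone _ (by omega)
        (hdeg t u ht hu (by omega) (commutator_mem_commutator (hmem t) (hmem u)))
    have e : ∀ w, π (s * w * s⁻¹) = π s * π w * (π s)⁻¹ := fun w => by rw [map_mul, map_mul, map_inv]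
    have key := rel_conj (s := π s) (a := π (x t)) (b := π (x (t + 1))) (c := π (x u)) (d := π (x (u + 1)))
      (by rw [← e, hcj, map_mul]) (by rw [← e, hcj, map_mul])
      (by rw [← map_commutatorElement]; exact hπc (comm_L_mem (by omega) (hmem _) (hmem _)) _)
      (by rw [← map_commutatorElement]; exact hπc (comm_L_mem (by omega) (hmem _) (hmem _)) _)
      (by rw [← map_commutatorElement]; exact (QuotientGroup.eq_one_iff _).2 (comm_L_mem (by omega) (hmem _) (hmem _)))
      (by rw [← map_commutatorElement, ← map_commutatorElement]; exact hπc hac _)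
    rw [show m - (t + 1) = u by omega, show m - t = u + 1 by omega, ← QuotientGroup.eq_one_iff]
    show π _ = 1
    rw [map_mul, map_commutatorElement, map_commutatorElement, key, ← map_commutatorElement]
    show (π ⁅x t, x u⁆)⁻¹ * (π s * π ⁅x t, x u⁆ * (π s)⁻¹) = 1
    rw [(hπc hac s).eq, mul_inv_cancel_right, inv_mul_cancel]
  -- `L (n - 3)` is centralized by the two-step centralizer
  have hC1 : ⁅x 1, x (m - 1)⁆ ∉ L X (m + 2) := fun h => hC0 (by
    have h' := hrel 0 (by omega)
    rw [zero_add, Nat.sub_zero] at h'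
    exact ((L X (m + 2)).mul_mem_cancel_left h).mp h')
  have hbot : ∀ {w : X}, w ∈ L X (m + 3) → w = 1 := fun {w} hw => by
    rwa [c.L_bot (by omega), mem_bot] at hw
  have hx0 : Commute (x 0) ⁅x 1, x (m - 1)⁆ := by
    obtain ⟨y, hy, ey⟩ : ∃ y ∈ L X 3, x 0 * x 1 * (x 0)⁻¹ = y * x 1 :=
      ⟨⁅x 0, x 1⁆, mem_twoStep.mp h0 _ (hmem 1), by simp [commutatorElement_def]⟩
    obtain ⟨z, hz, ez⟩ : ∃ z ∈ L X (m + 1), x 0 * x (m - 1) * (x 0)⁻¹ = z * x (m - 1) :=
      ⟨⁅x 0, x (m - 1)⁆, Subgroup.lowerCentralSeries_antitone _ (by omega)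
        (mem_twoStep.mp (hk (m - 1) (by omega) (by omega) ▸ h0) _ (hmem (m - 1))),
        by simp [commutatorElement_def]⟩
    have hcz : ∀ {w : X}, w ∈ L X 1 → ∀ {v : X}, v ∈ L X (m + 1) → Commute w v := fun {w} hw {v} hv =>
      commutatorElement_eq_one_iff_commute.mp (hbot (comm_L_mem (by omega) hw hv))
    have hzx : ⁅y * x 1, z⁆ = 1 := commutatorElement_eq_one_iff_commute.mpr
      (hcz (mul_mem (Subgroup.lowerCentralSeries_antitone _ (by omega) hy) (hmem 1)) hz)
    have hyx : ⁅y, x (m - 1)⁆ = 1 := hbot (comm_L_mem (by omega) hy (hmem (m - 1)))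
    have e : x 0 * ⁅x 1, x (m - 1)⁆ * (x 0)⁻¹ = ⁅x 1, x (m - 1)⁆ := by
      rw [conjugate_commutatorElement, ey, ez, commutatorElement_mul_right_eq_mul_conj, hzx, one_mul,
        commutatorElement_mul_left_eq_conj_mul, hyx, mul_one]
      have h1 : Commute z (y * ⁅x 1, x (m - 1)⁆ * y⁻¹) := (hcz
        ((inferInstance : (L X 1).Normal).conj_mem _ (Subgroup.lowerCentralSeries_antitone _ (by omega)
          (comm_L_mem (k := 1) (by omega) (hmem 1) (hmem (m - 1)))) _) hz).symm
      rw [h1.eq, mul_inv_cancel_right]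
      rw [(hcz (Subgroup.lowerCentralSeries_antitone _ (by omega) hy) (hC 1 (by omega))).eq, mul_inv_cancel_right]
    exact mul_inv_eq_iff_eq_mul.mp e
  have hcomm : ∀ w ∈ L X (m + 1), ∀ g ∈ twoStep X 1, Commute g w := by
    intro w hw
    have hle : L X (m + 1) ≤ centralizer ({x 0} : Set X) := by
      rw [← c.gen_L (by omega) (hC 1 (by omega)) hC1]
      refine sup_le (fun v hv => ?_) (zpowers_le.mpr ?_) <;> rw [mem_centralizer_singleton_iff]
      · exact (c.commute_of_mem (by rwa [show 2 * j + 1 - 2 = m + 1 + 1 by omega]) (x 0)).symm.eq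
      · exact hx0.symm.eq
    have hle' : twoStep X 1 ≤ centralizer ({w} : Set X) := by
      rw [← c.gen_twoStep le_rfl (by omega) h0 h01]
      refine sup_le (fun v hv => ?_) (zpowers_le.mpr ?_) <;> rw [mem_centralizer_singleton_iff]
      · exact (commutatorElement_eq_one_iff_commute.mp (hbot (comm_L_mem (by omega) hv hw))).eq
      · exact (mem_centralizer_singleton_iff.mp (hle hw)).symm
    exact fun g hg => mem_centralizer_singleton_iff.mp (hle' hg)
  have hxM : ∀ t, x t ∈ twoStep X 1 := fun t => by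
    rcases Nat.eq_zero_or_pos t with rfl | ht
    · exact h0
    · exact L_one_le_twoStep 1 (Subgroup.lowerCentralSeries_antitone _ ht (hmem t))
  -- the derived values
  have hD : ∀ {w : X}, w ∈ L X (m + 1) → D s w ∈ L X (2 * j + 1 - 2) := fun {w} hw =>
    Subgroup.lowerCentralSeries_antitone _ (by omega) (D_mem hw)
  have hDmul : ∀ {v w : X}, v ∈ L X (m + 1) → D s (v * w) = D s v * D s w := fun {v w} hv => by
    rw [← inv_mul_cancel_left w (D s v * D s w), ← mul_assoc w, ← (c.commute_of_mem (hD hv) w).symm.eq]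
    simp [D]; group
  have hDone : ∀ {v : X}, v ∈ L X (m + 2) → D s v = 1 := fun {v} hv => hbot (D_mem hv)
  set φ := D s ⁅x 0, x m⁆ with hφ
  have hDC : ∀ t, t ≤ m → D s ⁅x t, x (m - t)⁆ = φ ^ ((-1 : ℤ) ^ t) := by
    intro t
    induction t with
    | zero => intro _; simp [hφ]
    | succ t ih =>
      intro ht
      have h := hDone (hrel t (by omega))
      rw [hDmul (hC _ ht), ih (by omega), ← eq_inv_iff_mul_eq_one] at h
      rw [h, ← zpow_neg, pow_succ, mul_neg, mul_one]
  -- the next level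
  have hE : ∀ t, t ≤ m + 1 → ⁅x t, x (m + 1 - t)⁆ = φ ^ ((-1 : ℤ) ^ (t + 1) * t) := by
    intro t
    induction t with
    | zero =>
      intro _
      rw [Nat.sub_zero, Nat.cast_zero, mul_zero, zpow_zero, commutatorElement_eq_one_iff_commute]
      exact hcomm _ (hmem _) _ h0
    | succ t ih =>
      intro ht
      obtain ⟨u, hu⟩ : ∃ u, t + u = m := ⟨m - t, by omega⟩
      have hbc : ⁅x (t + 1), x u⁆ ∈ L X (2 * j + 1 - 2) := comm_L_mem (by omega) (hmem _) (hmem _)
      have h := rel_conj (hcj t) (hcj u) (c.commute_of_mem hbc _)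
        (c.commute_of_mem (comm_L_mem (by omega) (hmem _) (hmem _)) _)
        (hbot (comm_L_mem (by omega) (hmem _) (hmem _))) (c.commute_of_mem hbc _).symm
      have e1 := ih (by omega)
      rw [show m + 1 - t = u + 1 by omega] at e1
      have e2 := hDC t (by omega)
      rw [show m - t = u by omega] at e2
      rw [e1, e2, ← eq_mul_inv_iff_mul_eq, ← zpow_neg, ← zpow_add] at h
      rw [show m + 1 - (t + 1) = u by omega, h, pow_succ, pow_succ]
      congr 1
      push_cast
      ring
  -- the middle value is trivial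
  have h := hE (j - 1) (by omega)
  rw [show m + 1 - (j - 1) = j - 1 by omega, commutatorElement_self] at h
  have hφp : φ ^ p = 1 := c.pow_eq_one_of_mem (hD (hC 0 (by omega)))
  have hφk : φ ^ (j - 1) = 1 := by
    rcases neg_one_pow_eq_or ℤ (j - 1 + 1) with e | e <;> rw [e] at h
    · rw [one_mul, zpow_natCast] at h; exact h.symm
    · rw [neg_one_mul, zpow_neg, zpow_natCast, eq_comm, inv_eq_one] at h; exact h
  have hcop : Nat.Coprime (j - 1) p :=
    ((Nat.Prime.coprime_iff_not_dvd hp.out).2 (Nat.not_dvd_of_pos_of_lt (by omega) (by omega))).symm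
  have hφ1 : φ = 1 := by
    rw [← pow_one φ, ← hcop.gcd_eq_one]
    exact pow_gcd_eq_one.mpr ⟨hφk, hφp⟩
  refine hs.D_sharp (i := m + 1) (by omega) (by omega) (hC 0 (by omega)) hC0 ?_
  rw [Nat.sub_zero, ← hφ, hφ1]
  exact one_mem _

end Mc

theorem Mc.twoStep_const {n : ℕ} {X : Type u} [Group X] [Finite X] (c : Mc X p n) :
    ∀ k, 1 ≤ k → (k ≤ n - 4 ∨ (Odd n ∧ k = n - 3)) → twoStep X k = twoStep X 1 := by
  induction n using Nat.strong_induction_on generalizing X with
  | _ n ih =>
  have hlow : ∀ k, 1 ≤ k → k ≤ n - 4 → twoStep X k = twoStep X 1 := by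
    intro k hk hkn
    rcases eq_or_lt_of_le hk with rfl | hk2
    · rfl
    have hQ : Mc (X ⧸ L X (n - 2)) p (n - 1) := by
      have := c.quot (k := n - 2) (by omega) (by omega)
      rwa [show n - 2 + 1 = n - 1 by omega] at this
    have key : ∀ i, i + 2 ≤ n - 2 →
        twoStep X i = (twoStep (X ⧸ L X (n - 2)) i).comap (QuotientGroup.mk' (L X (n - 2))) := by
      intro i hi
      ext g
      rw [mem_comap, mem_twoStep, mem_twoStep]
      constructor
      · intro h u hu
        rw [← map_L] at hu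
        obtain ⟨v, hv, rfl⟩ := hu
        rw [← map_commutatorElement, ← map_L]
        exact mem_map_of_mem _ (h v hv)
      · intro h v hv
        have h1 := h _ (by rw [← map_L]; exact mem_map_of_mem _ hv)
        rwa [← map_commutatorElement, ← map_L, ← mem_comap, comap_map_eq, QuotientGroup.ker_mk',
          sup_of_le_left (Subgroup.lowerCentralSeries_antitone _ hi)] at h1
    have hrec : ∀ i, 1 ≤ i → (i ≤ n - 5 ∨ (Odd (n - 1) ∧ i = n - 4)) → twoStep X i = twoStep X 1 := by
      intro i hi hi'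
      rw [key i (by omega), key 1 (by omega)]
      exact congrArg _ (ih (n - 1) (by omega) hQ i hi (by
        rw [show n - 1 - 4 = n - 5 by omega, show n - 1 - 3 = n - 4 by omega]; exact hi'))
    by_cases hk5 : k ≤ n - 5
    · exact hrec k hk (Or.inl hk5)
    obtain rfl : k = n - 4 := by omega
    rcases Nat.even_or_odd n with he | ho
    · exact hrec _ hk (Or.inr ⟨Nat.Even.sub_odd (by omega) he odd_one, rfl⟩)
    by_cases hp4 : n - 4 ≤ p - 1
    · have := hp.out.two_le
      obtain ⟨q, rfl⟩ := ho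
      exact c.twoStep_antepenult ⟨q, rfl⟩ (by omega) (by omega) fun i h1 h2 => hrec i h1 (Or.inl h2)
    · obtain ⟨i, h1, h2, -, he⟩ := c.twoStep_periodic (n - 4) hk (by omega)
      rw [← he]
      exact hrec i h1 (Or.inl (by omega))
  rintro k hk (h | ⟨ho, rfl⟩)
  · exact hlow k hk h
  · by_cases h5 : 5 ≤ n
    · exact c.twoStep_penult ho h5 hlow
    · obtain ⟨q, rfl⟩ := ho; omega

end Cfsg.Agent.MaxClassPower
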