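import Cfsg.Agent.Lib.MaxClass.TwoStep

/-!
# A p-group of maximal class and exponent p has order at most p ^ p

`Mc.false_of_exponent` : no group of maximal class of order `p ^ (p + 1)` has exponent `p`.
The proof linearises the identity `(u * s) ^ p = s ^ p` over the group of functions `(ZMod p)ˣ → X`.
-/

set_option autoImplicit false
set_option linter.unusedSectionVars false
set_option linter.style.haveILetI false

open Subgroup
open scoped commutatorElement

universe u v

namespace Cfsg.Agent.MaxClassPower

open PearlRank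

/-- In an abelian group of exponent `p`: a vanishing norm kills the `(p - 1)`st difference. -/
theorem iterate_diff_eq_one {A : Type v} [CommGroup A] {p : ℕ} (hp : p.Prime) (hA : ∀ a : A, a ^ p = 1)
    (φ : A →* A) (x : A) (R : ℕ → A) (h0 : R 0 = 1) (hs : ∀ m, R (m + 1) = R m * φ^[m] x) (hR : R p = 1) :
    (fun a => a⁻¹ * φ a)^[p - 1] x = 1 := by
  let F : ℕ → Subgroup A := fun i => if i ≤ p + 1 then ⊤ else ⊥
  have hF : PolySeq.IsFiltration F := by
    constructor
    · intro i j hij
      simp only [F]
      by_cases h : j ≤ p + 1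
      · rw [if_pos h, if_pos (hij.trans h)]
      · rw [if_neg h]; exact bot_le
    · intro i j
      rw [commutator_le]
      intro a _ b _
      rw [commutatorElement_eq_one_iff_mul_comm.mpr (mul_comm a b)]
      exact one_mem _
  haveI : ∀ i, (F i).Normal := fun i => inferInstance
  have hpoly : ∀ k i, i + k ≤ p + 1 → ∀ f : ℕ → A, PolySeq.IsPoly F k i f := by
    intro k
    induction k with
    | zero => intro i hi f m; simp only [F, if_pos (by omega : i ≤ p + 1)]; exact mem_top _
    | succ k ih =>
      intro i hi f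
      exact ⟨fun m => by simp only [F, if_pos (by omega : i ≤ p + 1)]; exact mem_top _, ih _ (by omega) _⟩
  have key := PearlRank.pow_congr hF hp (le_refl 1) (hpoly p 1 (by omega) R) h0
    (fun j _ a _ => by rw [hA]; exact one_mem _)
  rw [hR, map_one, one_mul, ← map_pow, hA, map_one, inv_one] at key
  have hbot : PearlRank.dlt p R = 1 := by
    have h := (QuotientGroup.eq_one_iff _).1 key.symm
    simpa [F] using h
  have hd : ∀ k y, PearlRank.dlt k (fun m => φ^[m] y) = (fun a => a⁻¹ * φ a)^[k] y := by
    intro k
    induction k with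
    | zero => intro y; rfl
    | succ k ih =>
      intro y
      show PearlRank.dlt k (PolySeq.diff fun m => φ^[m] y) = _
      have e : PolySeq.diff (fun m => φ^[m] y) = fun m => φ^[m] (y⁻¹ * φ y) := by
        funext m
        simp only [PolySeq.diff, Function.iterate_succ_apply, iterate_map_mul, iterate_map_inv]
      rw [e, ih, Function.iterate_succ_apply]
  rw [← hd]
  have hp1 : p = p - 1 + 1 := by have := hp.two_le; omega
  rw [hp1] at hbot
  have hdiff : PolySeq.diff R = fun m => φ^[m] x := by
    funext m
    simp [PolySeq.diff, hs]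
  have h2 : PearlRank.dlt (p - 1) (PolySeq.diff R) = 1 := hbot
  rwa [hdiff] at h2

theorem commutatorElement_pow_of_central {Q : Type v} [Group Q] {a b : Q} (hz : ⁅a, b⁆ ∈ center Q)
    (m k : ℕ) : ⁅a ^ m, b ^ k⁆ = ⁅a, b⁆ ^ (m * k) := by
  have hl : ∀ m : ℕ, ⁅a ^ m, b⁆ = ⁅a, b⁆ ^ m := by
    intro m
    induction m with
    | zero => simp
    | succ m ih =>
      have e : ⁅a ^ (m + 1), b⁆ = a ^ m * ⁅a, b⁆ * (a ^ m)⁻¹ * ⁅a ^ m, b⁆ := by
        simp only [pow_succ, commutatorElement_def]; group
      rw [e, ih, mem_center_iff.mp hz (a ^ m), mul_inv_cancel_right, pow_succ']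
  induction k with
  | zero => simp
  | succ k ih =>
    have e : ⁅a ^ m, b ^ (k + 1)⁆ = ⁅a ^ m, b ^ k⁆ * (b ^ k * ⁅a ^ m, b⁆ * (b ^ k)⁻¹) := by
      simp only [pow_succ, commutatorElement_def]; group
    rw [e, ih, hl, mem_center_iff.mp (pow_mem hz m) (b ^ k), mul_inv_cancel_right, ← pow_add]
    ring_nf

variable {X : Type u} [Group X] [Finite X] {p : ℕ} [hp : Fact p.Prime]

theorem lcs_eq_bot_of_card_le {M : Type u} [Group M] [Finite M] (hM : IsPGroup p M)
    (hc : Nat.card M ≤ p ^ p) : (⊤ : Subgroup M).lowerCentralSeries (p - 1) = ⊥ := by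
  have hp2 := hp.out.two_le
  haveI := hM.isNilpotent
  set Γ := fun j => (⊤ : Subgroup M).lowerCentralSeries j with hΓ
  have key : ∀ j, 1 ≤ j → Γ j = ⊥ ∨ p ^ (j + 1) * Nat.card (Γ j) ≤ Nat.card M := by
    intro j hj
    induction j, hj using Nat.le_induction with
    | base =>
      by_cases h : Γ 1 = ⊥
      · exact Or.inl h
      · right
        have h1 : Γ 1 = _root_.commutator M := top_lowerCentralSeries_one
        rw [h1, ← card_mul_index (_root_.commutator M), mul_comm]
        exact Nat.mul_le_mul_left _ (PGroup.index_commutator_ge hM (h1 ▸ h))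
    | succ j hj ih =>
      by_cases h : Γ j = ⊥
      · left
        simp only [hΓ] at h ⊢
        rw [Subgroup.lowerCentralSeries_succ, h, commutator_bot_left]
      · rcases ih with ih | ih
        · exact absurd ih h
        · right
          have h1 : p * Nat.card (Γ (j + 1)) ≤ Nat.card (Γ j) := by
            simp only [hΓ] at h ⊢
            rw [Subgroup.lowerCentralSeries_succ]
            exact PGroup.mul_card_le_of_lt hM (PGroup.commutator_lt_of_ne_bot hM h)
          rw [pow_succ, mul_assoc]
          exact (Nat.mul_le_mul_left _ h1).trans ih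
  rcases key (p - 1) (by omega) with h | h
  · exact h
  · rw [show p - 1 + 1 = p by omega] at h
    exact Subgroup.eq_bot_of_card_le _ (by
      have : p ^ p * Nat.card (Γ (p - 1)) ≤ p ^ p * 1 := by rw [mul_one]; exact h.trans hc
      exact Nat.le_of_mul_le_mul_left this (pow_pos hp.out.pos p))

theorem Mc.false_of_exponent (c : Mc X p (p + 1)) (hexp : ∀ x : X, x ^ p = 1) : False := by
  classical
  have hp2 := hp.out.two_le
  obtain ⟨s, g⟩ := c.exists_good
  have hne : ∀ t : X, L X 1 ⊔ zpowers t ≠ ⊤ := by
    intro t h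
    have h2 : zpowers t = ⊤ := PGroup.eq_top_of_sup_frattini (top_le_iff.mp (h.ge.trans (sup_le
      (le_sup_of_le_right ((Subgroup.top_lowerCentralSeries_one (G := X)).le.trans
        (PGroup.commutator_le_frattini c.pGroup))) le_sup_left)))
    have hcy : IsCyclic X :=
      ⟨⟨t, fun y => mem_zpowers_iff.mp (by rw [h2]; exact mem_top y)⟩⟩
    have h3 : L X 1 = ⊥ := by
      rw [L, Subgroup.top_lowerCentralSeries_one]; exact commutator_eq_bot X
    exact c.L_lt le_rfl (by omega) (by rw [h3]; exact bot_le)
  obtain ⟨u, -, hu⟩ := SetLike.not_le_iff_exists.mp (fun h => hne s (top_le_iff.mp h))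
  -- the value of the iterated difference
  have hDu : Pc.D s u ∉ L X 2 := by
    intro hD
    have hgen : L X 1 ⊔ zpowers s ⊔ zpowers u = ⊤ := by
      by_contra hne'
      have h1 := PGroup.mul_card_le_of_lt c.pGroup
        (left_lt_sup.2 fun h => g.not_mem_L_one (h (mem_zpowers s)) : L X 1 < L X 1 ⊔ zpowers s)
      have h2 := PGroup.mul_card_le_of_lt c.pGroup
        (left_lt_sup.2 fun h => hu (h (mem_zpowers u)) : L X 1 ⊔ zpowers s < L X 1 ⊔ zpowers s ⊔ zpowers u)
      have h3 : Nat.card ↥(L X 1 ⊔ zpowers s ⊔ zpowers u) < Nat.card X :=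
        lt_of_le_of_ne (Subgroup.card_le_card_group _) fun he => hne' (Subgroup.eq_top_of_card_eq _ he)
      have h4 : p * (p * Nat.card (L X 1)) < p ^ (p + 1) :=
        lt_of_le_of_lt ((Nat.mul_le_mul_left _ h1).trans h2) (c.card ▸ h3)
      rw [c.card_L le_rfl, ← pow_succ', ← pow_succ'] at h4
      have := (Nat.pow_lt_pow_iff_right hp.out.one_lt).mp h4
      omega
    have hle : (⊤ : Subgroup X) ≤
        (centralizer {QuotientGroup.mk' (L X 2) s}).comap (QuotientGroup.mk' (L X 2)) := by
      refine hgen.ge.trans ?_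
      refine sup_le (sup_le (fun y hy => ?_) (zpowers_le.mpr ?_)) (zpowers_le.mpr ?_)
      · rw [mem_comap, mem_centralizer_singleton_iff, ← commutatorElement_eq_one_iff_mul_comm,
          ← map_commutatorElement]
        exact (QuotientGroup.eq_one_iff _).2 (commutator_mem_commutator hy (mem_top s))
      · rw [mem_comap, mem_centralizer_singleton_iff]
      · rw [mem_comap, mem_centralizer_singleton_iff]
        have h1 : QuotientGroup.mk' (L X 2) (Pc.D s u) = 1 := (QuotientGroup.eq_one_iff _).2 hD
        rw [Pc.D, map_mul, map_mul, map_mul, map_inv, map_inv, inv_mul_eq_one] at h1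
        rw [eq_mul_inv_iff_mul_eq] at h1
        exact h1
    have hcomm : L X 1 ≤ L X 2 := by
      refine le_trans ?_ (le_of_eq (QuotientGroup.ker_mk' (L X 2)))
      rw [L, Subgroup.lowerCentralSeries_succ, Subgroup.lowerCentralSeries_zero, commutator_le]
      intro a _ b _
      rw [MonoidHom.mem_ker, map_commutatorElement, commutatorElement_eq_one_iff_mul_comm]
      -- everything commutes modulo `L₂`
      have hcen : ∀ x y : X, QuotientGroup.mk' (L X 2) x * QuotientGroup.mk' (L X 2) y =
          QuotientGroup.mk' (L X 2) y * QuotientGroup.mk' (L X 2) x := by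
        have hZ : ∀ x, x ∈ L X 1 ∨ x = s ∨ x = u → (⊤ : Subgroup X) ≤
            (centralizer {QuotientGroup.mk' (L X 2) x}).comap (QuotientGroup.mk' (L X 2)) := by
          rintro x (hx | rfl | rfl)
          · intro y _
            rw [mem_comap, mem_centralizer_singleton_iff]
            symm
            rw [← commutatorElement_eq_one_iff_mul_comm, ← map_commutatorElement]
            exact (QuotientGroup.eq_one_iff _).2 (commutator_mem_commutator hx (mem_top y))
          · exact hle
          · refine hgen.ge.trans ?_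
            refine sup_le (sup_le (fun y hy => ?_) (zpowers_le.mpr ?_)) (zpowers_le.mpr ?_)
            · rw [mem_comap, mem_centralizer_singleton_iff, ← commutatorElement_eq_one_iff_mul_comm,
                ← map_commutatorElement]
              exact (QuotientGroup.eq_one_iff _).2 (commutator_mem_commutator hy (mem_top x))
            · rw [mem_comap, mem_centralizer_singleton_iff]
              exact (mem_centralizer_singleton_iff.mp (hle (mem_top x))).symm
            · rw [mem_comap, mem_centralizer_singleton_iff]
        intro x y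
        have hx : (⊤ : Subgroup X) ≤
            (centralizer {QuotientGroup.mk' (L X 2) y}).comap (QuotientGroup.mk' (L X 2)) := by
          refine hgen.ge.trans ?_
          refine sup_le (sup_le (fun z hz => ?_) (zpowers_le.mpr ?_)) (zpowers_le.mpr ?_)
          · rw [mem_comap, mem_centralizer_singleton_iff]
            exact (mem_centralizer_singleton_iff.mp (hZ z (Or.inl hz) (mem_top y))).symm
          · rw [mem_comap, mem_centralizer_singleton_iff]
            exact (mem_centralizer_singleton_iff.mp (hZ s (Or.inr (Or.inl rfl)) (mem_top y))).symm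
          · rw [mem_comap, mem_centralizer_singleton_iff]
            exact (mem_centralizer_singleton_iff.mp (hZ u (Or.inr (Or.inr rfl)) (mem_top y))).symm
        exact mem_centralizer_singleton_iff.mp (hx (mem_top x))
      exact hcen a b
    exact c.L_lt le_rfl (by omega) hcomm
  set w := (Pc.D s)^[p - 1] u with hw
  have hw1 : w ≠ 1 := by
    intro h
    refine g.D_iter_sharp le_rfl (a := Pc.D s u) (PearlRank.Pc.D_mem (i := 0) (mem_top u)) hDu (p - 2)
      (by omega) ?_
    rw [show 1 + (p - 2) + 1 = p by omega, ← Function.iterate_succ_apply,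
      show (p - 2).succ = p - 1 by omega]
    rw [hw] at h
    rw [h]
    exact one_mem _
  -- the iterated difference is a homomorphism
  have hDadd : ∀ j (a b : X), a ∈ L X j → b ∈ L X j →
      QuotientGroup.mk' (L X (j + 2)) (Pc.D s (a * b)) =
        QuotientGroup.mk' (L X (j + 2)) (Pc.D s a) * QuotientGroup.mk' (L X (j + 2)) (Pc.D s b) := by
    intro j a b ha hb
    have e : Pc.D s (a * b) = b⁻¹ * Pc.D s a * b * Pc.D s b := by simp only [Pc.D]; group
    rw [e, map_mul]
    congr 1
    have h1 : ⁅b⁻¹, Pc.D s a⁆ ∈ L X (j + 2) := by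
      rw [← commutatorElement_inv]
      exact inv_mem (commutator_mem_commutator (PearlRank.Pc.D_mem ha) (mem_top _))
    have h2 : QuotientGroup.mk' (L X (j + 2)) ⁅b⁻¹, Pc.D s a⁆ = 1 := (QuotientGroup.eq_one_iff _).2 h1
    rw [commutatorElement_def, inv_inv, map_mul, map_inv, mul_inv_eq_one] at h2
    exact h2
  have hDj : ∀ j (a b : X), QuotientGroup.mk' (L X (j + 1)) ((Pc.D s)^[j] (a * b)) =
      QuotientGroup.mk' (L X (j + 1)) ((Pc.D s)^[j] a * (Pc.D s)^[j] b) := by
    intro j
    induction j with
    | zero => intro a b; rfl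
    | succ j ih =>
      intro a b
      have hm : ∀ y : X, (Pc.D s)^[j] y ∈ L X j := fun y => by
        have := g.D_iter_mem (i := 0) (a := y) (mem_top y) j
        rwa [Nat.zero_add] at this
      simp only [Function.iterate_succ_apply']
      obtain ⟨t, ht, he⟩ : ∃ t ∈ L X (j + 1), (Pc.D s)^[j] (a * b) = (Pc.D s)^[j] a * (Pc.D s)^[j] b * t :=
        ⟨_, QuotientGroup.eq.1 (ih a b).symm, by group⟩
      rw [he, hDadd j _ _ (mul_mem (hm a) (hm b)) (Subgroup.lowerCentralSeries_antitone _ (Nat.le_succ j) ht),
        show QuotientGroup.mk' (L X (j + 2)) (Pc.D s t) = 1 from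
          (QuotientGroup.eq_one_iff _).2 (PearlRank.Pc.D_mem ht), mul_one,
        hDadd j _ _ (hm a) (hm b), map_mul]
  have hDp : ∀ a b : X, (Pc.D s)^[p - 1] (a * b) = (Pc.D s)^[p - 1] a * (Pc.D s)^[p - 1] b := by
    intro a b
    have h := QuotientGroup.eq.1 (hDj (p - 1) a b)
    rw [show p - 1 + 1 = p by omega, c.L_bot (i := p) (by omega), mem_bot, inv_mul_eq_one] at h
    exact h
  let Dh : X →* X := MonoidHom.mk' _ hDp
  -- the function group
  let K := (ZMod p)ˣ
  let val : K → ℕ := fun k => (k : ZMod p).val
  have hpowmod : ∀ (x : X) (a b : ℕ), a % p = b % p → x ^ a = x ^ b := by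
    intro x a b h
    rw [pow_eq_pow_mod a (hexp x), pow_eq_pow_mod b (hexp x), h]
  have hval : ∀ c k : K, val (c * k) % p = val k * val c % p := by
    intro a b
    show ((a * b : K) : ZMod p).val % p = _
    rw [Units.val_mul, ZMod.val_mul, Nat.mod_mod]
    exact congrArg (· % p) (Nat.mul_comm _ _)
  let S : K → X := fun _ => s
  let U : K → X := fun k => u ^ val k
  let σ : K → (K → X) →* (K → X) := fun a =>
    { toFun := fun f k => f (a * k), map_one' := rfl, map_mul' := fun f f' => rfl }
  have hσS : ∀ a, σ a S = S := fun a => rfl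
  have hσU : ∀ a, σ a U = U ^ val a := fun a => by
    funext k
    show u ^ val (a * k) = (u ^ val k) ^ val a
    rw [← pow_mul]
    exact hpowmod u _ _ (hval a k)
  let N : Subgroup (K → X) := closure (Set.range fun j : ℕ => S ^ j * U * (S ^ j)⁻¹)
  have hσN : ∀ a, ∀ x ∈ N, σ a x ∈ N := by
    intro a
    show N ≤ N.comap (σ a)
    refine (closure_le _).mpr ?_
    rintro _ ⟨j, rfl⟩
    show σ a (S ^ j * U * (S ^ j)⁻¹) ∈ N
    rw [map_mul, map_mul, map_inv, map_pow, hσS, hσU, ← conj_pow]
    refine pow_mem (Subgroup.subset_closure ?_) _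
    exact ⟨j, rfl⟩
  have hSN : ∀ x ∈ N, S * x * S⁻¹ ∈ N := by
    show N ≤ N.comap (MulAut.conj S).toMonoidHom
    refine (closure_le _).mpr ?_
    rintro _ ⟨j, rfl⟩
    show S * (S ^ j * U * (S ^ j)⁻¹) * S⁻¹ ∈ N
    rw [show S * (S ^ j * U * (S ^ j)⁻¹) * S⁻¹ = S ^ (j + 1) * U * (S ^ (j + 1))⁻¹ by
      rw [pow_succ']; group]
    exact subset_closure ⟨j + 1, rfl⟩
  have hUN : U ∈ N := Subgroup.subset_closure ⟨0, show S ^ 0 * U * (S ^ 0)⁻¹ = U by simp⟩
  let φ : N →* N :=
    { toFun := fun x => ⟨S * x * S⁻¹, hSN x x.2⟩
      map_one' := Subtype.ext (by simp)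
      map_mul' := fun x y => Subtype.ext (by simp [mul_assoc]) }
  let ψ : K → N →* N := fun a => ((σ a).comp N.subtype).codRestrict N (fun x => hσN a x x.2)
  set Γ := fun d => (⊤ : Subgroup N).lowerCentralSeries d with hΓ
  have hexpN : ∀ x : N, x ^ p = 1 := fun x => Subtype.ext (funext fun k => hexp _)
  -- the class of `N`
  have hΓbot : Γ (p - 1) = ⊥ := by
    set M := L X 1 ⊔ zpowers u with hM
    haveI : M.Normal := Subgroup.Normal.of_commutator_le (G := X) (H := M)
      ((Subgroup.top_lowerCentralSeries_one (G := X)).ge.trans le_sup_left)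
    have hMc : Nat.card M ≤ p ^ p := by
      obtain ⟨j, hj, hj'⟩ := (Nat.dvd_prime_pow hp.out).mp (c.card ▸ M.card_subgroup_dvd_card)
      rw [hj']
      refine Nat.pow_le_pow_right hp.out.pos ?_
      by_contra hlt
      exact hne u (Subgroup.eq_top_of_card_eq _ (by rw [hj', c.card, show j = p + 1 by omega]))
    have hMb : M.lowerCentralSeries (p - 1) = ⊥ := by
      rw [← top_subtype_lowerCentralSeries, lcs_eq_bot_of_card_le (c.pGroup.to_subgroup M) hMc,
        Subgroup.map_bot]
    rw [eq_bot_iff]
    intro x hx
    refine mem_bot.mpr (Subtype.ext (funext fun k => ?_))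
    let ev : N →* X := (Pi.evalMonoidHom (fun _ : K => X) k).comp N.subtype
    have hev : (⊤ : Subgroup N).map ev ≤ M := by
      rw [Subgroup.map_le_iff_le_comap]
      rintro ⟨y, hy⟩ -
      have : N ≤ M.comap (Pi.evalMonoidHom (fun _ : K => X) k) := by
        refine (closure_le _).mpr ?_
        rintro _ ⟨j, rfl⟩
        show s ^ j * u ^ val k * (s ^ j)⁻¹ ∈ M
        exact (inferInstance : M.Normal).conj_mem _ (pow_mem (mem_sup_right (mem_zpowers u)) _) _
      exact this hy
    have h1 : ev x ∈ (Γ (p - 1)).map ev := mem_map_of_mem _ hx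
    simp only [hΓ, Subgroup.map_lowerCentralSeries] at h1
    have h2 : ev x ∈ M.lowerCentralSeries (p - 1) := Subgroup.lowerCentralSeries_mono (p - 1) hev h1
    rwa [hMb, mem_bot] at h2
  -- the scalars act on the layers of `N` by powers
  have hψ : ∀ a d, ∀ x ∈ Γ d, QuotientGroup.mk' (Γ (d + 1)) (ψ a x) =
      QuotientGroup.mk' (Γ (d + 1)) (x ^ (val a ^ (d + 1))) := by
    intro a d
    have hF := PolySeq.isFiltration_lowerCentralSeries (G := N)
    have hcen : ∀ d, ∀ x ∈ Γ d, QuotientGroup.mk' (Γ (d + 1)) x ∈ center (N ⧸ Γ (d + 1)) := by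
      intro d x hx
      rw [mem_center_iff]
      intro y
      obtain ⟨y, rfl⟩ := QuotientGroup.mk'_surjective _ y
      symm
      rw [← commutatorElement_eq_one_iff_mul_comm, ← map_commutatorElement]
      exact (QuotientGroup.eq_one_iff _).2 (commutator_mem_commutator hx (mem_top y))
    induction d with
    | zero =>
      intro x _
      let T : Subgroup N :=
        { carrier := {y | QuotientGroup.mk' (Γ 1) (ψ a y) = QuotientGroup.mk' (Γ 1) y ^ val a}
          one_mem' := by simp
          mul_mem' := fun {y y'} h h' => by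
            show _ = _
            rw [map_mul, map_mul, map_mul, h, h', Commute.mul_pow]
            exact (mem_center_iff.mp (hcen 0 y (mem_top y)) _).symm
          inv_mem' := fun {y} h => by
            show _ = _
            rw [map_inv, map_inv, map_inv, h, inv_pow] }
      have hT : N ≤ T.map N.subtype := by
        refine (closure_le _).mpr ?_
        rintro _ ⟨j, rfl⟩
        refine ⟨⟨_, subset_closure ⟨j, rfl⟩⟩, ?_, rfl⟩
        show _ = _
        rw [← map_pow]
        congr 1
        refine Subtype.ext ?_
        show σ a (S ^ j * U * (S ^ j)⁻¹) = _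
        rw [map_mul, map_mul, map_inv, map_pow, hσS, hσU, ← conj_pow]
        rfl
      obtain ⟨y, hy, hyx⟩ := hT x.2
      have : y = x := Subtype.ext hyx
      subst this
      rw [pow_one, map_pow]
      exact hy
    | succ d ih =>
      intro x hx
      set π := QuotientGroup.mk' (Γ (d + 2)) with hπ
      let T : Subgroup N :=
        { carrier := {y | y ∈ Γ (d + 1) ∧ π (ψ a y) = π y ^ (val a ^ (d + 2))}
          one_mem' := ⟨one_mem _, by simp⟩
          mul_mem' := fun {y y'} h h' => ⟨mul_mem h.1 h'.1, by
            rw [map_mul, map_mul, map_mul, h.2, h'.2, Commute.mul_pow]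
            exact (mem_center_iff.mp (hcen (d + 1) y h.1) _).symm⟩
          inv_mem' := fun {y} h => ⟨inv_mem h.1, by rw [map_inv, map_inv, map_inv, h.2, inv_pow]⟩ }
      have hT : Γ (d + 1) ≤ T := by
        show (⊤ : Subgroup N).lowerCentralSeries (d + 1) ≤ T
        rw [Subgroup.lowerCentralSeries_succ, commutator_le]
        intro y hy z _
        have hyz : ⁅y, z⁆ ∈ Γ (d + 1) := commutator_mem_commutator hy (mem_top z)
        refine ⟨hyz, ?_⟩
        obtain ⟨t, ht, hte⟩ : ∃ t ∈ Γ (d + 1), ψ a y = y ^ (val a ^ (d + 1)) * t :=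
          ⟨_, QuotientGroup.eq.1 (ih y hy).symm, (mul_inv_cancel_left _ _).symm⟩
        have hz0 : QuotientGroup.mk' (Γ 1) (ψ a z) = QuotientGroup.mk' (Γ 1) (z ^ val a) := by
          let T0 : Subgroup N :=
            { carrier := {y | QuotientGroup.mk' (Γ 1) (ψ a y) = QuotientGroup.mk' (Γ 1) y ^ val a}
              one_mem' := by simp
              mul_mem' := fun {y y'} h h' => by
                show _ = _
                rw [map_mul, map_mul, map_mul, h, h', Commute.mul_pow]
                exact (mem_center_iff.mp (hcen 0 y (mem_top y)) _).symm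
              inv_mem' := fun {y} h => by
                show _ = _
                rw [map_inv, map_inv, map_inv, h, inv_pow] }
          have hT0 : N ≤ T0.map N.subtype := by
            refine (closure_le _).mpr ?_
            rintro _ ⟨j, rfl⟩
            refine ⟨⟨_, subset_closure ⟨j, rfl⟩⟩, ?_, rfl⟩
            show _ = _
            rw [← map_pow]
            congr 1
            refine Subtype.ext ?_
            show σ a (S ^ j * U * (S ^ j)⁻¹) = _
            rw [map_mul, map_mul, map_inv, map_pow, hσS, hσU, ← conj_pow]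
            rfl
          obtain ⟨y', hy', hyz'⟩ := hT0 z.2
          have : y' = z := Subtype.ext hyz'
          subst this
          rw [map_pow]
          exact hy'
        obtain ⟨t', ht', hte'⟩ : ∃ t' ∈ Γ 1, ψ a z = z ^ val a * t' :=
          ⟨_, QuotientGroup.eq.1 hz0.symm, (mul_inv_cancel_left _ _).symm⟩
        have hbil : ⁅π y, π z⁆ ∈ center (N ⧸ Γ (d + 2)) := by
          rw [← map_commutatorElement]; exact hcen (d + 1) _ hyz
        rw [map_commutatorElement, map_commutatorElement, map_commutatorElement, hte, hte', map_mul,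
          map_mul, map_pow, map_pow]
        have hA : ⁅π t, π (ψ a z)⁆ = 1 := by
          rw [← map_commutatorElement]
          exact (QuotientGroup.eq_one_iff _).2 (commutator_mem_commutator ht (mem_top _))
        have hB : ⁅π y ^ (val a ^ (d + 1)), π t'⁆ = 1 := by
          rw [← map_pow, ← map_commutatorElement]
          refine (QuotientGroup.eq_one_iff _).2 ?_
          have h1 := hF.comm (d + 1) 2 (commutator_mem_commutator
            (g₁ := y ^ (val a ^ (d + 1))) (g₂ := t')
            (show _ ∈ PolySeq.lcsFil N (d + 1) from pow_mem hy _)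
            (show t' ∈ PolySeq.lcsFil N 2 from ht'))
          exact h1
        rw [← map_pow π z, ← map_mul π (z ^ val a), ← hte']
        have e1 : ⁅π y ^ (val a ^ (d + 1)) * π t, π (ψ a z)⁆ = ⁅π y ^ (val a ^ (d + 1)), π (ψ a z)⁆ := by
          rw [show ⁅π y ^ (val a ^ (d + 1)) * π t, π (ψ a z)⁆ = π y ^ (val a ^ (d + 1)) *
            ⁅π t, π (ψ a z)⁆ * (π y ^ (val a ^ (d + 1)))⁻¹ * ⁅π y ^ (val a ^ (d + 1)), π (ψ a z)⁆ by
            simp only [commutatorElement_def]; group, hA]
          group
        rw [e1, hte', map_mul, map_pow]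
        rw [show ⁅π y ^ (val a ^ (d + 1)), π z ^ val a * π t'⁆ = ⁅π y ^ (val a ^ (d + 1)), π z ^ val a⁆ *
          ((π z ^ val a) * ⁅π y ^ (val a ^ (d + 1)), π t'⁆ * (π z ^ val a)⁻¹) by
          simp only [commutatorElement_def]; group, hB, mul_one, mul_inv_cancel, mul_one,
          commutatorElement_pow_of_central hbil, ← pow_succ]
      rw [map_pow]
      exact (hT hx).2
  -- the linear element
  let D' : N → N := fun x => x⁻¹ * φ x
  let U' : N := ⟨U, hUN⟩
  set z := D'^[p - 1] U' with hz
  have hcoord : ∀ (j : ℕ) (x : N) (k : K), ((D'^[j] x : N) : K → X) k = (Pc.D s)^[j] ((x : K → X) k) := by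
    intro j
    induction j with
    | zero => intro x k; rfl
    | succ j ih =>
      intro x k
      rw [Function.iterate_succ_apply', Function.iterate_succ_apply', ← ih]
      rfl
  have hzk : ∀ k, (z : K → X) k = w ^ val k := fun k => by
    rw [hz, hcoord]
    exact map_pow Dh u (val k)
  have hψz : ∀ a, ψ a z = z ^ val a := fun a => by
    refine Subtype.ext (funext fun k => ?_)
    show (z : K → X) (a * k) = ((z : K → X) k) ^ val a
    rw [hzk, hzk, ← pow_mul]
    exact hpowmod w _ _ (hval a k)
  -- `z` lies in `Γ 1`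
  have hz1 : z ∈ Γ 1 := by
    haveI hQc : IsMulCommutative (N ⧸ Γ 1) :=
      Subgroup.Normal.quotient_commutative_iff_commutator_le.mpr
        (Subgroup.top_lowerCentralSeries_one (G := N)).ge
    open scoped IsMulCommutative in
    let π := QuotientGroup.mk' (Γ 1)
    have hφΓ : Γ 1 ≤ (Γ 1).comap φ := by
      rw [← Subgroup.map_le_iff_le_comap]
      simp only [hΓ, Subgroup.map_lowerCentralSeries]
      exact Subgroup.lowerCentralSeries_mono 1 le_top
    let φb : N ⧸ Γ 1 →* N ⧸ Γ 1 := QuotientGroup.map (Γ 1) (Γ 1) φ hφΓ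
    have hit : ∀ m (x : N), φb^[m] (π x) = π (φ^[m] x) := by
      intro m
      induction m with
      | zero => intro x; rfl
      | succ m ih =>
        intro x
        rw [Function.iterate_succ_apply', Function.iterate_succ_apply', ih]
        rfl
    let R : ℕ → N := fun m => Nat.rec 1 (fun j r => r * φ^[j] U') m
    have hφit : ∀ m, ((φ^[m] U' : N) : K → X) = S ^ m * U * (S ^ m)⁻¹ := by
      intro m
      induction m with
      | zero => simp [U']
      | succ m ih =>
        rw [Function.iterate_succ_apply']
        show S * ((φ^[m] U' : N) : K → X) * S⁻¹ = _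
        rw [ih, pow_succ']
        group
    have hR : ∀ m, Subtype.val (R m) = (U * S) ^ m * (S ^ m)⁻¹ := by
      intro m
      induction m with
      | zero => simp [R]
      | succ m ih =>
        show ((R m : N).val) * ((φ^[m] U' : N).val) = _
        rw [ih, hφit, pow_succ (U * S), pow_succ S]
        group
    have hRp : R p = 1 := by
      refine Subtype.ext ?_
      rw [hR]
      funext k
      simp only [Pi.mul_apply, Pi.pow_apply, Pi.inv_apply, hexp, inv_one, mul_one]
      rfl
    open scoped IsMulCommutative in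
    have key := iterate_diff_eq_one hp.out (A := N ⧸ Γ 1)
      (fun q => by
        induction q using QuotientGroup.induction_on with
        | H x => rw [← QuotientGroup.mk_pow, hexpN]; rfl)
      φb (π U') (fun m => π (R m)) (map_one π)
      (fun m => by rw [hit]; exact map_mul π (R m) _)
      (by rw [hRp, map_one])
    have hDit : ∀ m (x : N), (fun q : N ⧸ Γ 1 => q⁻¹ * φb q)^[m] (π x) = π (D'^[m] x) := by
      intro m
      induction m with
      | zero => intro x; rfl
      | succ m ih =>
        intro x
        rw [Function.iterate_succ_apply', Function.iterate_succ_apply', ih]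
        rfl
    rw [hDit] at key
    exact (QuotientGroup.eq_one_iff _).1 key
  -- climbing
  obtain ⟨a, ha⟩ := IsCyclic.exists_generator (α := K)
  have hao : orderOf a = p - 1 := by
    rw [orderOf_eq_card_of_forall_mem_zpowers ha, Nat.card_eq_fintype_card, ZMod.card_units]
  have hclimb : ∀ d, 1 ≤ d → d ≤ p - 1 → z ∈ Γ d := by
    intro d hd
    induction d, hd using Nat.le_induction with
    | base => exact fun _ => hz1
    | succ d hd ih =>
      intro hdp
      have hzd := ih (by omega)
      have h := hψ a d z hzd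
      rw [hψz, map_pow, map_pow] at h
      rw [← QuotientGroup.eq_one_iff]
      by_contra hne1
      have ho : orderOf (QuotientGroup.mk' (Γ (d + 1)) z) = p := orderOf_eq_prime
        (by rw [← map_pow, hexpN, map_one]) hne1
      rw [pow_eq_pow_iff_modEq, ho] at h
      have h1 : ((val a : ℕ) : ZMod p) = ((val a ^ (d + 1) : ℕ) : ZMod p) :=
        (ZMod.natCast_eq_natCast_iff _ _ _).mpr h
      rw [Nat.cast_pow] at h1
      simp only [val, ZMod.natCast_zmod_val] at h1
      have h2 : a = a ^ (d + 1) := Units.ext (by rw [Units.val_pow_eq_pow_val]; exact h1)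
      have h3 : a ^ d = 1 := by
        rw [pow_succ] at h2
        exact (mul_eq_right).mp h2.symm
      have h4 := Nat.le_of_dvd (by omega) (orderOf_dvd_of_pow_eq_one h3)
      omega
  have hzb := hclimb (p - 1) (by omega) le_rfl
  rw [hΓbot, mem_bot] at hzb
  refine hw1 ?_
  have h := hzk 1
  rw [hzb] at h
  have hv1 : val 1 = 1 := by simp [val, ZMod.val_one]
  rw [hv1, pow_one] at h
  exact h.symm

end Cfsg.Agent.MaxClassPower
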