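import Cfsg.Agent.Lib.PearlRank.Diff
import Cfsg.Agent.Lib.PearlRank.Basic
import Cfsg.Agent.Lib.PGroup.MaximalClass
import Cfsg.Agent.Lib.Solvable.Basic

/-!
# The power map in p-groups of maximal class, from an element with centralizer of order p²

`Gd X p n s` : `|C(s)| = p ^ 2` (no condition on the order of `s`, unlike `PearlRank.Pc`).
* `Gd.pow_mem`, `Gd.pow_sharp` : the power map shifts the layers by `p - 1`;
* `Gd.card_le_pow_closure` : subgroups inside the derived group have large power subgroups.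
-/

set_option autoImplicit false
set_option linter.unusedSectionVars false

open Subgroup
open scoped commutatorElement

universe u

namespace Cfsg.Agent.MaxClassPower

open PearlRank
open PearlRank.Pc (D D_mem)

/-- A group of order `p ^ n` with an element with centralizer of order `p ^ 2`. -/
structure Gd (X : Type u) [Group X] (p n : ℕ) (s : X) : Prop where
  card : Nat.card X = p ^ n
  three_le : 3 ≤ n
  cent : Nat.card (centralizer ({s} : Set X)) = p ^ 2

variable {X : Type u} [Group X] [Finite X] {p n : ℕ} [hp : Fact p.Prime] {s : X}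

namespace Gd

variable (c : Gd X p n s)

include c

theorem pGroup : IsPGroup p X := IsPGroup.of_card c.card

theorem nilpotencyClass : Group.nilpotencyClass X = n - 1 := maximal_of_cent c.card c.cent

theorem L_bot {i : ℕ} (hi : n - 1 ≤ i) : L X i = ⊥ := by
  haveI := c.pGroup.isNilpotent
  exact Subgroup.lowerCentralSeries_eq_bot_iff_nilpotencyClass_le.mpr (c.nilpotencyClass.le.trans hi)

theorem card_L {i : ℕ} (hi : 1 ≤ i) : Nat.card (L X i) = p ^ (n - 1 - i) := by
  rcases le_or_gt i (n - 1) with h | h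
  · exact PGroup.card_lcs_of_maximal_class c.three_le c.card c.nilpotencyClass hi h
  · rw [c.L_bot h.le, card_bot, show n - 1 - i = 0 by omega, pow_zero]

theorem not_mem_center : s ∉ center X := fun h => by
  have h' : centralizer ({s} : Set X) = ⊤ := centralizer_eq_top_iff_subset.mpr (by simpa using h)
  have h9 := c.cent
  rw [h', card_top, c.card] at h9
  have := Nat.pow_right_injective hp.out.two_le h9
  have := c.three_le
  omega

/-- The conjugates of `s` fill the coset `L₁ s`. -/
theorem exists_conj {a : X} (ha : a ∈ L X 1) : ∃ g : X, g * s * g⁻¹ = a * s := by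
  set C := centralizer ({s} : Set X) with hC
  have hmem : ∀ g : X, ⁅g, s⁆ ∈ L X 1 := fun g => commutator_mem_commutator (mem_top g) (mem_top s)
  have hwd : ∀ g h : X, g⁻¹ * h ∈ C ↔ ⁅g, s⁆ = ⁅h, s⁆ := by
    intro g h
    rw [hC, mem_centralizer_singleton_iff, commutatorElement_def, commutatorElement_def, mul_left_inj]
    constructor
    · intro e
      calc g * s * g⁻¹ = g * (s * (g⁻¹ * h)) * h⁻¹ := by group
        _ = g * (g⁻¹ * h * s) * h⁻¹ := by rw [e]
        _ = h * s * h⁻¹ := by group
    · intro e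
      calc g⁻¹ * h * s = g⁻¹ * (h * s * h⁻¹) * h := by group
        _ = g⁻¹ * (g * s * g⁻¹) * h := by rw [← e]
        _ = s * (g⁻¹ * h) := by group
  let f : X ⧸ C → L X 1 := Quotient.lift (fun g => (⟨⁅g, s⁆, hmem g⟩ : L X 1)) fun g h e =>
    Subtype.ext ((hwd g h).mp (QuotientGroup.leftRel_apply.mp e))
  have hf : Function.Injective f := by
    intro u v
    induction u using QuotientGroup.induction_on with
    | H g => induction v using QuotientGroup.induction_on with
      | H h => exact fun e => QuotientGroup.eq.mpr ((hwd g h).mpr (congrArg Subtype.val e))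
  have hcard : Nat.card (X ⧸ C) = Nat.card (L X 1) := by
    have h1 := C.card_mul_index
    rw [index_eq_card, show Nat.card C = p ^ 2 from c.cent, c.card,
      show n = 2 + (n - 1 - 1) by have := c.three_le; omega, pow_add] at h1
    rw [c.card_L le_rfl]
    exact Nat.eq_of_mul_eq_mul_left (pow_pos hp.out.pos _) h1
  have := Fintype.ofFinite (X ⧸ C)
  obtain ⟨u, hu⟩ := (hf.bijective_of_nat_card_le hcard.ge).2 ⟨a, ha⟩
  induction u using QuotientGroup.induction_on with
  | H g =>
    refine ⟨g, ?_⟩
    have hu' : ⁅g, s⁆ = a := congrArg Subtype.val hu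
    rw [← hu', commutatorElement_def]
    group

theorem not_mem_L_one : s ∉ L X 1 := fun h => by
  obtain ⟨g, hg⟩ := c.exists_conj (inv_mem h)
  rw [inv_mul_cancel, conj_eq_one_iff] at hg
  exact c.not_mem_center (hg ▸ one_mem _)
theorem pow_mem_center : s ^ p ∈ center X := by
  have hP : IsPGroup p X := c.pGroup
  have hle : center X ≤ centralizer ({s} : Set X) := center_le_centralizer _
  have hlt : center X < centralizer ({s} : Set X) :=
    lt_of_le_of_ne hle fun h => c.not_mem_center (h ▸ mem_centralizer_singleton_iff.mpr rfl)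
  have hn := c.three_le
  haveI : Nontrivial X := by
    rw [← Finite.one_lt_card_iff_nontrivial, c.card]; exact Nat.one_lt_pow (by omega) hp.out.one_lt
  set Z := (center X).subgroupOf (centralizer ({s} : Set X)) with hZ
  haveI : Z.Normal := inferInstance
  have hZi : Z.index ∣ p := by
    have h1 := Z.card_mul_index
    rw [show Nat.card (centralizer ({s} : Set X) : Subgroup X) = p ^ 2 from c.cent,
      Nat.card_congr (Subgroup.subgroupOfEquivOfLe hle).toEquiv] at h1
    obtain ⟨j, hj⟩ := IsPGroup.iff_card.mp (hP.to_subgroup (center X))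
    have hj0 : j ≠ 0 := by
      intro h0
      have := IsPGroup.center_nontrivial hP
      rw [← Finite.one_lt_card_iff_nontrivial, hj, h0, pow_zero] at this
      exact lt_irrefl _ this
    rw [hj] at h1
    have hd : p * Z.index ∣ p ^ 2 := ⟨p ^ (j - 1), by
      calc p ^ 2 = p ^ j * Z.index := h1.symm
        _ = p * Z.index * p ^ (j - 1) := by
          rw [show j = j - 1 + 1 by omega, pow_succ', show j - 1 + 1 - 1 = j - 1 by omega]; ring⟩
    rw [sq] at hd
    exact Nat.dvd_of_mul_dvd_mul_left hp.out.pos hd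
  have h2 := Z.pow_index_mem ⟨s, mem_centralizer_singleton_iff.mpr rfl⟩
  obtain ⟨t, ht⟩ := hZi
  have h3 := pow_mem h2 t
  rw [← pow_mul, ← ht] at h3
  exact h3

theorem coset_pow {a : X} (ha : a ∈ L X 1) : (a * s) ^ p = s ^ p := by
  obtain ⟨g, hg⟩ := c.exists_conj ha
  rw [← hg, conj_pow, mem_center_iff.mp c.pow_mem_center g, mul_inv_cancel_right]

theorem card_cent_inf {i : ℕ} (hi : 1 ≤ i) : Nat.card ↥(L X i ⊓ centralizer ({s} : Set X)) ≤ p := by
  have hlt : L X i ⊓ centralizer ({s} : Set X) < centralizer ({s} : Set X) := by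
    refine lt_of_le_of_ne inf_le_right fun h => c.not_mem_L_one ?_
    exact Subgroup.lowerCentralSeries_antitone _ hi (h.ge (mem_centralizer_singleton_iff.mpr rfl)).1
  have := PGroup.mul_card_le_of_lt c.pGroup hlt
  rw [c.cent, pow_two] at this
  exact Nat.le_of_mul_le_mul_left this hp.out.pos

theorem D_surj {i : ℕ} (hi : 1 ≤ i) {b : X} (hb : b ∈ L X (i + 1)) : ∃ a ∈ L X i, D s a = b := by
  classical
  haveI := Fintype.ofFinite X
  set C := L X i ⊓ centralizer ({s} : Set X) with hC
  -- the map on cosets is injective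
  have hwd : ∀ g h : L X i, (g : X) * (h : X)⁻¹ ∈ C ↔ D s g = D s h := by
    intro g h
    constructor
    · intro e
      have h1 := mem_centralizer_singleton_iff.mp e.2
      calc D s g = (g : X)⁻¹ * (s * ((g : X) * (h : X)⁻¹)) * h * s⁻¹ := by simp [D]; group
        _ = (g : X)⁻¹ * ((g : X) * (h : X)⁻¹ * s) * h * s⁻¹ := by rw [h1]
        _ = D s h := by simp [D]; group
    · intro e
      refine ⟨(L X i).mul_mem g.2 ((L X i).inv_mem h.2), mem_centralizer_singleton_iff.mpr ?_⟩
      calc (g : X) * (h : X)⁻¹ * s = (g : X) * D s h * s * (h : X)⁻¹ := by simp [D]; group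
        _ = (g : X) * D s g * s * (h : X)⁻¹ := by rw [e]
        _ = s * ((g : X) * (h : X)⁻¹) := by simp [D]; group
  let Cs := C.subgroupOf (L X i)
  let f : L X i ⧸ Cs → L X (i + 1) := Quotient.lift
    (fun g => (⟨D s ((g⁻¹ : L X i) : X), D_mem (g⁻¹).2⟩ : L X (i + 1))) fun g h e => Subtype.ext ((hwd _ _).mp (by
      have := QuotientGroup.leftRel_apply.mp e
      simpa [Cs, mem_subgroupOf] using this))
  have hf : Function.Injective f := by
    intro u v
    induction u using QuotientGroup.induction_on with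
    | H g => induction v using QuotientGroup.induction_on with
      | H h =>
        intro e
        refine QuotientGroup.eq.mpr ?_
        have := (hwd g⁻¹ h⁻¹).mpr (congrArg Subtype.val e)
        simpa [Cs, mem_subgroupOf] using this
  have hcard : Nat.card (L X (i + 1)) ≤ Nat.card (L X i ⧸ Cs) := by
    have h1 := Cs.card_mul_index
    rw [index_eq_card, Nat.card_congr (Subgroup.subgroupOfEquivOfLe (inf_le_left : C ≤ L X i)).toEquiv] at h1
    have h2 : Nat.card (L X i) ≤ p * Nat.card (L X i ⧸ Cs) := h1.ge.trans (Nat.mul_le_mul_right _ (c.card_cent_inf hi))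
    rcases le_or_gt (n - 1) i with h | h
    · rw [c.L_bot (by omega), card_bot]; exact Nat.card_pos
    · rw [c.card_L hi, show n - 1 - i = n - 1 - (i + 1) + 1 by omega, pow_succ', ← c.card_L (by omega : 1 ≤ i + 1)] at h2
      exact Nat.le_of_mul_le_mul_left h2 hp.out.pos
  obtain ⟨u, hu⟩ := (hf.bijective_of_nat_card_le hcard).2 ⟨b, hb⟩
  induction u using QuotientGroup.induction_on with
  | H g => exact ⟨_, (g⁻¹).2, congrArg Subtype.val hu⟩

theorem D_sharp {i : ℕ} (hi : 1 ≤ i) (hin : i + 1 ≤ n - 2) {a : X} (ha : a ∈ L X i) (ha' : a ∉ L X (i + 1)) :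
    D s a ∉ L X (i + 2) := by
  intro hD
  set π := QuotientGroup.mk' (L X (i + 2))
  have hgen : L X (i + 1) ⊔ zpowers a = L X i := by
    refine PGroup.eq_of_le_of_card_le (sup_le (Subgroup.lowerCentralSeries_antitone _ (Nat.le_succ i))
      (zpowers_le.mpr ha)) ?_
    have := PGroup.mul_card_le_of_lt c.pGroup
      (left_lt_sup.2 fun h => ha' (h (mem_zpowers a)) : L X (i + 1) < L X (i + 1) ⊔ zpowers a)
    rw [c.card_L (by omega : 1 ≤ i + 1), ← pow_succ', show n - 1 - (i + 1) + 1 = n - 1 - i by omega,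
      ← c.card_L hi] at this
    exact this
  have hc : L X i ≤ (centralizer {π s}).comap π := by
    rw [← hgen]
    refine sup_le (fun y hy => ?_) (zpowers_le.mpr ?_)
    · rw [mem_comap, mem_centralizer_singleton_iff, ← commutatorElement_eq_one_iff_mul_comm, ← map_commutatorElement]
      exact (QuotientGroup.eq_one_iff _).2 (commutator_mem_commutator hy (mem_top s))
    · rw [mem_comap, mem_centralizer_singleton_iff]
      have h1 : π (D s a) = 1 := (QuotientGroup.eq_one_iff _).2 hD
      rw [D, map_mul, map_mul, map_mul, map_inv, map_inv, inv_mul_eq_one] at h1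
      rw [eq_mul_inv_iff_mul_eq] at h1
      exact h1
  have hle : L X (i + 1) ≤ L X (i + 2) := by
    intro y hy
    obtain ⟨b, hb, rfl⟩ := c.D_surj hi hy
    refine (QuotientGroup.eq_one_iff _).1 ?_
    show π (D s b) = 1
    have h1 := mem_centralizer_singleton_iff.mp (hc hb)
    rw [D, map_mul, map_mul, map_mul, map_inv, map_inv, ← h1, mul_inv_cancel_right, inv_mul_cancel]
  have := Subgroup.card_le_of_le hle
  rw [c.card_L (by omega : 1 ≤ i + 1), c.card_L (by omega : 1 ≤ i + 2)] at this
  have := (Nat.pow_le_pow_iff_right hp.out.one_lt).1 this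
  omega

theorem D_iter_mem {i : ℕ} {a : X} (ha : a ∈ L X i) : ∀ k, (D s)^[k] a ∈ L X (i + k) := by
  intro k
  induction k with
  | zero => exact ha
  | succ k ih => rw [Function.iterate_succ_apply']; exact D_mem ih

theorem D_iter_sharp {i : ℕ} (hi : 1 ≤ i) {a : X} (ha : a ∈ L X i) (ha' : a ∉ L X (i + 1)) :
    ∀ k, i + k ≤ n - 2 → (D s)^[k] a ∉ L X (i + k + 1) := by
  intro k
  induction k with
  | zero => exact fun _ => ha'
  | succ k ih =>
    intro hk
    rw [Function.iterate_succ_apply', show i + (k + 1) + 1 = i + k + 2 by omega]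
    exact c.D_sharp (by omega) (by omega) (c.D_iter_mem ha k) (ih (by omega))

open PolySeq in
/-- The fundamental congruence. -/
theorem pow_congruence {i : ℕ} (hi : 1 ≤ i) {u : X} (hu : u ∈ L X i)
    (hpow : ∀ j, i + 1 ≤ j → ∀ c ∈ L X j, c ^ p ∈ L X (i + p)) :
    (D s)^[p - 1] u * u ^ p ∈ L X (i + p) := by
  have hF := isFiltration_lowerCentralSeries (G := X)
  haveI : ∀ j, (lcsFil X j).Normal := fun j => by unfold lcsFil; infer_instance
  have hlev : ∀ j, lcsFil X (j + 1) = L X j := fun j => by simp [lcsFil]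
  -- conjugates by powers of `s`
  let v : X → ℕ → X := fun a m => s ^ (m + 1) * a * (s ^ (m + 1))⁻¹
  have hdiff : ∀ a, diff (v a) = v (D s a) := fun a => by
    funext m
    simp only [diff, v, D, pow_succ]
    group
  have hpoly : ∀ k j, 1 ≤ j → ∀ a ∈ L X j, IsPoly (lcsFil X) k (j + 1) (v a) := by
    intro k
    induction k with
    | zero => intro j _ a ha m; rw [hlev]; exact (inferInstance : (L X j).Normal).conj_mem a ha _
    | succ k ih =>
      intro j hj a ha
      refine ⟨fun m => by rw [hlev]; exact (inferInstance : (L X j).Normal).conj_mem a ha _, ?_⟩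
      rw [hdiff]
      exact ih (j + 1) (by omega) _ (D_mem ha)
  have hdlt : ∀ k a, dlt k (v a) = v ((D s)^[k] a) 0 := by
    intro k
    induction k with
    | zero => intro a; rfl
    | succ k ih =>
      intro a
      show dlt k (diff (v a)) = _
      rw [hdiff, ih, Function.iterate_succ_apply]
  -- the sequence
  let f : ℕ → X := fun m => (s * u) ^ m * (s ^ m)⁻¹
  have hfd : diff f = v u := by
    funext m
    simp only [diff, f, v, pow_succ, mul_inv_rev, inv_inv]
    group
  have hfmem : ∀ m, f m ∈ L X i := by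
    intro m
    induction m with
    | zero => simp [f]
    | succ m ih =>
      have h1 : f (m + 1) = f m * diff f m := by simp [diff]
      rw [h1, hfd]
      exact mul_mem ih ((inferInstance : (L X i).Normal).conj_mem u hu _)
  have hf : IsPoly (lcsFil X) p i f := by
    rw [show p = p - 1 + 1 by have := hp.out.two_le; omega]
    refine ⟨fun m => hF.anti (Nat.le_succ i) (by rw [hlev]; exact hfmem m), ?_⟩
    rw [hfd]
    exact hpoly _ i hi u hu
  have key := pow_congr hF hp.out hi hf (by simp [f]) (fun j hj a ha => by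
    obtain ⟨j, rfl⟩ : ∃ j', j = j' + 1 := ⟨j - 1, by omega⟩
    rw [hlev] at ha ⊢
    exact hpow j (by omega) a ha)
  have hfp : f p = 1 := by
    have h1 : s * u = (s * u * s⁻¹) * s := by group
    have h2 := c.coset_pow (a := s * u * s⁻¹) (Subgroup.lowerCentralSeries_antitone _ hi
      ((inferInstance : (L X i).Normal).conj_mem u hu s))
    show (s * u) ^ p * (s ^ p)⁻¹ = 1
    rw [h1, h2, mul_inv_cancel]
  have hf1 : f 1 = s * u * s⁻¹ := by simp [f]
  have hdf : dlt p f = s * (D s)^[p - 1] u * s⁻¹ := by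
    conv_lhs => rw [show p = p - 1 + 1 by have := hp.out.two_le; omega]
    show dlt (p - 1) (diff f) = _
    rw [hfd, hdlt]
    simp [v]
  rw [hfp, hf1, hdf, map_one, one_mul, ← map_pow, ← map_inv] at key
  have h := QuotientGroup.eq.1 key.symm
  rw [show (i + p + 1) = (i + p) + 1 by omega, hlev, conj_pow] at h
  have h' := (inferInstance : (L X (i + p)).Normal).conj_mem _ h s⁻¹
  have h'' := inv_mem h'
  have e : (D s)^[p - 1] u * u ^ p = u ^ (-(p : ℤ)) *
      ((s⁻¹ * ((s * (D s)^[p - 1] u * s⁻¹)⁻¹ * (s * u ^ p * s⁻¹)⁻¹) * s⁻¹⁻¹)⁻¹) * u ^ (p : ℤ) := by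
    rw [zpow_neg, zpow_natCast]
    group
  rw [e, zpow_neg]
  simpa using (inferInstance : (L X (i + p)).Normal).conj_mem _ h'' (u ^ (p : ℤ))⁻¹

/-- The power map moves down `p - 1` layers. -/
theorem pow_mem : ∀ {i : ℕ}, 1 ≤ i → ∀ u ∈ L X i, u ^ p ∈ L X (i + p - 1) := by
  suffices H : ∀ d i, n ≤ i + d → 1 ≤ i → ∀ u ∈ L X i, u ^ p ∈ L X (i + p - 1) from
    fun {i} hi => H n i (by omega) hi
  intro d
  induction d with
  | zero =>
    intro i hd _ u hu
    rw [c.L_bot (by omega), mem_bot] at hu
    rw [hu, one_pow]; exact one_mem _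
  | succ d ih =>
    intro i hd hi u hu
    have h := c.pow_congruence hi hu fun j hj a ha =>
      Subgroup.lowerCentralSeries_antitone _ (by omega : i + p ≤ j + p - 1) (ih j (by omega) (by omega) a ha)
    have h1 : (D s)^[p - 1] u ∈ L X (i + p - 1) := by
      have := c.D_iter_mem hu (p - 1)
      rwa [show i + (p - 1) = i + p - 1 by have := hp.out.two_le; omega] at this
    have h2 := mul_mem (inv_mem h1) (Subgroup.lowerCentralSeries_antitone _ (by omega : i + p - 1 ≤ i + p) h)
    rwa [inv_mul_cancel_left] at h2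

/-- It does so exactly. -/
theorem pow_sharp {i : ℕ} (hi : 1 ≤ i) (hin : i + p ≤ n - 1) {u : X} (hu : u ∈ L X i) (hu' : u ∉ L X (i + 1)) :
    u ^ p ∈ L X (i + p - 1) ∧ u ^ p ∉ L X (i + p) := by
  refine ⟨c.pow_mem hi u hu, fun h => ?_⟩
  have h1 := c.pow_congruence hi hu fun j hj a ha =>
    Subgroup.lowerCentralSeries_antitone _ (by omega : i + p ≤ j + p - 1) (c.pow_mem (by omega) a ha)
  have h2 := c.D_iter_sharp hi hu hu' (p - 1) (by have := hp.out.two_le; omega)
  rw [show i + (p - 1) + 1 = i + p by have := hp.out.two_le; omega] at h2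
  apply h2
  have := mul_mem h1 (inv_mem h)
  rwa [mul_inv_cancel_right] at this

/-- The subgroups inside `L₁` have large power subgroups. -/
theorem card_le_pow_closure {H : Subgroup X} (K : Subgroup X) (hK : ∀ h ∈ H, h ^ p ∈ K) :
    ∀ {i : ℕ}, 1 ≤ i → Nat.card ↥(H ⊓ L X i) ≤ p ^ (p - 1) * Nat.card ↥(K ⊓ L X (i + p - 1)) := by
  suffices H' : ∀ d i, n ≤ i + d → 1 ≤ i →
      Nat.card ↥(H ⊓ L X i) ≤ p ^ (p - 1) * Nat.card ↥(K ⊓ L X (i + p - 1)) from
    fun {i} hi => H' n i (by omega) hi
  intro d
  induction d with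
  | zero =>
    intro i hd hi
    rw [c.L_bot (by omega : n - 1 ≤ i), inf_bot_eq, card_bot]
    exact Nat.mul_pos (pow_pos hp.out.pos _) Nat.card_pos
  | succ d ih =>
    intro i hd hi
    by_cases hbig : n - 1 < i + p
    · refine (Subgroup.card_le_of_le inf_le_right).trans ?_
      rw [c.card_L hi]
      exact (Nat.pow_le_pow_right hp.out.pos (by omega)).trans (Nat.le_mul_of_pos_right _ Nat.card_pos)
    have hanti : L X (i + 1) ≤ L X i := Subgroup.lowerCentralSeries_antitone _ (Nat.le_succ i)
    have hantik : L X (i + 1 + p - 1) ≤ L X (i + p - 1) := Subgroup.lowerCentralSeries_antitone _ (by omega)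
    have ih' := ih (i + 1) (by omega) (by omega)
    by_cases heq : ∀ h ∈ H ⊓ L X i, h ∈ L X (i + 1)
    · exact (Subgroup.card_le_of_le (le_inf inf_le_left heq)).trans (ih'.trans
        (Nat.mul_le_mul_left _ (Subgroup.card_le_of_le (inf_le_inf_left K hantik))))
    push Not at heq
    obtain ⟨h, hh, hh'⟩ := heq
    obtain ⟨hp1, hp2⟩ := c.pow_sharp hi (by omega) hh.2 hh'
    have hstep : Nat.card ↥(H ⊓ L X i) ≤ p * Nat.card ↥(H ⊓ L X (i + 1)) := by
      haveI : (L X (i + 1)).Normal := inferInstance
      have h1 := Solvable.card_eq_card_map_mul (QuotientGroup.mk' (L X (i + 1))) (H ⊓ L X i)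
      rw [QuotientGroup.ker_mk', inf_assoc, inf_of_le_right hanti] at h1
      rw [h1]
      refine Nat.mul_le_mul_right _ ?_
      refine (Subgroup.card_le_of_le (map_mono inf_le_right)).trans ?_
      have h2 := Solvable.card_eq_card_map_mul (QuotientGroup.mk' (L X (i + 1))) (L X i)
      rw [QuotientGroup.ker_mk', inf_of_le_right hanti, c.card_L hi, c.card_L (by omega : 1 ≤ i + 1),
        show n - 1 - i = n - 1 - (i + 1) + 1 by have := hp.out.two_le; omega, pow_succ'] at h2
      exact (Nat.eq_of_mul_eq_mul_right (pow_pos hp.out.pos _) h2).ge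
    have hKstep : p * Nat.card ↥(K ⊓ L X (i + 1 + p - 1)) ≤ Nat.card ↥(K ⊓ L X (i + p - 1)) := by
      refine PGroup.mul_card_le_of_lt c.pGroup (lt_of_le_of_ne (inf_le_inf_left K hantik) fun e => hp2 ?_)
      have := e.ge ⟨hK h hh.1, hp1⟩
      rw [show i + 1 + p - 1 = i + p by omega] at this
      exact this.2
    calc Nat.card ↥(H ⊓ L X i) ≤ p * Nat.card ↥(H ⊓ L X (i + 1)) := hstep
      _ ≤ p * (p ^ (p - 1) * Nat.card ↥(K ⊓ L X (i + 1 + p - 1))) := Nat.mul_le_mul_left _ ih'
      _ = p ^ (p - 1) * (p * Nat.card ↥(K ⊓ L X (i + 1 + p - 1))) := by ring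
      _ ≤ _ := Nat.mul_le_mul_left _ hKstep

end Gd

end Cfsg.Agent.MaxClassPower
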