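import Cfsg.Agent.Lib.MaxClass.SmallNormal
import Cfsg.Agent.Lib.Resist.Fusion
import Cfsg.Agent.Lib.FusionChain.Alperin
import Cfsg.Agent.Lib.FusionChain.Radical

/-!
# A flag-preserving involution of `L (n - 4)` in a saturated fusion system

`An S n` : `L (n - 4)` inside the ambient group; `false_of_flag` : an automorphism of it in the fusion
system cannot act as a reflection compatible with the layers; `false_of_reflection` : nor as any other one.
-/

set_option autoImplicit false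
set_option linter.unusedSectionVars false
set_option linter.style.haveILetI false

open Subgroup
open scoped commutatorElement Pointwise

universe u

namespace Cfsg.Agent.MaxClassPower

open Cfsg Cfsg.FusionSystem Cfsg.Agent.Fusion PearlRank

variable {p n : ℕ} [hp : Fact p.Prime] {Ω : Type u} [Group Ω] {S : Subgroup Ω} [Finite S] {F : FusionSystem S}

/-- `L (n - 4)` inside the ambient group. -/
def An (S : Subgroup Ω) (n : ℕ) : Subgroup Ω := (L S (n - 4)).map S.subtype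

theorem An_le : An S n ≤ S := Subgroup.map_subtype_le _

/-- The inclusion of `An S n` in `S`. -/
def iAn (S : Subgroup Ω) (n : ℕ) : An S n →* S := Subgroup.inclusion (map_subtype_le _)

theorem iAn_mem (u : An S n) : iAn S n u ∈ L S (n - 4) := by
  obtain ⟨x, hx, e⟩ := u.2
  rwa [show iAn S n u = x from Subtype.ext e.symm]

theorem exists_iAn {x : S} (hx : x ∈ L S (n - 4)) : ∃ u : An S n, iAn S n u = x :=
  ⟨⟨x, x, hx, rfl⟩, Subtype.ext rfl⟩

/-- The part of `L i` in `An S n`. -/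
def Kn (S : Subgroup Ω) (n i : ℕ) : Subgroup (An S n) := (L S i).comap (iAn S n)

theorem mem_Kn {i : ℕ} {u : An S n} : u ∈ Kn S n i ↔ iAn S n u ∈ L S i := Iff.rfl

theorem normalizerIn_An : normalizerIn S (An S n) = S := by
  refine le_antisymm inf_le_left fun g hg => mem_normalizerIn.2 ⟨hg, fun x => ?_⟩
  have key : ∀ g ∈ S, ∀ x ∈ An S n, g * x * g⁻¹ ∈ An S n := by
    rintro g hg _ ⟨y, hy, rfl⟩
    exact ⟨⟨g, hg⟩ * y * ⟨g, hg⟩⁻¹, (inferInstance : (L S (n - 4)).Normal).conj_mem y hy _, rfl⟩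
  exact ⟨key g hg x, fun h => by
    have := key g⁻¹ (inv_mem hg) _ h
    rwa [show g⁻¹ * (g * x * g⁻¹) * g⁻¹⁻¹ = x by group] at this⟩

theorem fullyNormalized_An : F.IsFullyNormalized (An S n) :=
  ⟨An_le, fun Q _ => by
    rw [normalizerIn_An]
    exact Subgroup.card_le_of_le inf_le_left⟩

theorem pow_fix {M : Type*} [Group M] {β : MulAut M} {K : Subgroup M} (hK : ∀ w ∈ K, β w = w) {u : M}
    (hu : u⁻¹ * β u ∈ K) {q : ℕ} (hq : ∀ w ∈ K, w ^ q = 1) : (β ^ q) u = u := by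
  have key : ∀ j : ℕ, (β ^ j) u = u * (u⁻¹ * β u) ^ j := by
    intro j
    induction j with
    | zero => simp
    | succ j ih =>
      rw [pow_succ' β, MulAut.mul_apply, ih, map_mul, map_pow, hK _ hu, pow_succ' (u⁻¹ * β u), ← mul_assoc,
        mul_inv_cancel_left]
  rw [key, hq _ hu, mul_one]

theorem false_of_flag (hp5 : 5 ≤ p) (hn5 : 5 ≤ n) (hS : IsPGroup p S) (hF : F.IsSaturated p) (c : Mc S p n)
    {α : MulAut (An S n)} (hα : α ∈ F.autGroup (An S n)) (hα2 : ∀ u, α (α u) = u) {m b : ℤ}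
    (hm : m = 1 ∨ m = -1) (hmb : m * b = -1) (hA : ∀ u, α u * u⁻¹ ∈ Kn S n (n - 3))
    (hmid : ∀ w ∈ Kn S n (n - 3), α w * (w ^ m)⁻¹ ∈ Kn S n (n - 2))
    (hbot : ∀ z ∈ Kn S n (n - 2), α z = z ^ b)
    (hT : m = -1 → twoStep S (n - 4) ≠ twoStep S (n - 3)) : False := by
  have hAS : An S n ≤ S := An_le
  haveI := finite_of_le (S := S) hAS
  haveI := finite_mulAut (S := S) hAS
  have hinj : Function.Injective (iAn S n) := Subgroup.inclusion_injective _
  have hexp : ∀ u : An S n, u ^ p = 1 := fun u =>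
    hinj (by rw [map_pow, map_one]; exact c.pow_eq_one_of_mem_L hp5 hn5 (iAn_mem u))
  have hK1 : ∀ w : An S n, w ∈ Kn S n (n - 1) → w = 1 := fun w hw => hinj (by
    rw [map_one]; rwa [mem_Kn, c.L_bot le_rfl, mem_bot] at hw)
  -- the stabilizer of the flag
  let Cond : MulAut (An S n) → Prop := fun β => ∀ i, n - 4 ≤ i → i ≤ n - 2 → ∀ u ∈ Kn S n i,
    u⁻¹ * β u ∈ Kn S n (i + 1)
  have hpres : ∀ β, Cond β → ∀ i, n - 4 ≤ i → i ≤ n - 1 → ∀ u ∈ Kn S n i, β u ∈ Kn S n i := by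
    intro β hβ i hi hin u hu
    rcases eq_or_lt_of_le hin with rfl | hlt
    · rw [hK1 u hu, map_one]; exact one_mem _
    · have h := mul_mem hu ((Subgroup.comap_mono (Subgroup.lowerCentralSeries_antitone _ (Nat.le_succ i)))
        (hβ i hi (by omega) u hu))
      rwa [mul_inv_cancel_left] at h
  have hcmul : ∀ β γ, Cond β → Cond γ → Cond (β * γ) := by
    intro β γ hβ hγ i hi hin u hu
    rw [MulAut.mul_apply, show u⁻¹ * β (γ u) = u⁻¹ * γ u * ((γ u)⁻¹ * β (γ u)) by group]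
    exact mul_mem (hγ i hi hin u hu) (hβ i hi hin _ (hpres γ hγ i hi (by omega) u hu))
  have hcone : Cond 1 := fun i _ _ u _ => by rw [MulAut.one_apply, inv_mul_cancel]; exact one_mem _
  have hcpow : ∀ β, Cond β → ∀ j : ℕ, Cond (β ^ j) := by
    intro β hβ j
    induction j with
    | zero => exact hcone
    | succ j ih => rw [pow_succ]; exact hcmul _ _ ih hβ
  have hpp : ∀ β, Cond β → β ^ p ^ 2 = 1 := by
    intro β hβ
    have h2 : ∀ w ∈ Kn S n (n - 2), β w = w := fun w hw => by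
      have := hK1 _ (by simpa [show n - 2 + 1 = n - 1 by omega] using hβ (n - 2) (by omega) le_rfl w hw)
      rwa [inv_mul_eq_one, eq_comm] at this
    have h3 : ∀ w ∈ Kn S n (n - 3), (β ^ p) w = w := fun w hw => pow_fix h2
      (by simpa [show n - 3 + 1 = n - 2 by omega] using hβ (n - 3) (by omega) (by omega) w hw) fun v _ => hexp v
    refine MulEquiv.ext fun u => ?_
    rw [pow_two, pow_mul]
    refine pow_fix h3 ?_ fun v _ => hexp v
    simpa [show n - 4 + 1 = n - 3 by omega] using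
      hcpow β hβ p (n - 4) le_rfl (by omega) u (iAn_mem u)
  let U : Subgroup (MulAut (An S n)) :=
    { carrier := {β | β ∈ F.autGroup (An S n) ∧ Cond β}
      one_mem' := ⟨one_mem _, hcone⟩
      mul_mem' := fun h h' => ⟨mul_mem h.1 h'.1, hcmul _ _ h.2 h'.2⟩
      inv_mem' := fun {β} h => ⟨inv_mem h.1, by
        have e : β⁻¹ = β ^ (p ^ 2 - 1) := inv_eq_of_mul_eq_one_right (by
          rw [← pow_succ', Nat.sub_add_cancel (Nat.one_le_pow _ _ hp.out.pos), hpp β h.2])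
        exact e ▸ hcpow β h.2 _⟩ }
  have hUp : IsPGroup p U := fun β => ⟨2, Subtype.ext (by simpa using hpp _ β.2.2)⟩
  have hnc : ∀ g : normalizerIn S (An S n), Cond (normConj S (An S n) g) := by
    intro g i hi hin u hu
    let gs : S := ⟨g, g.2.1⟩
    have e : iAn S n (u⁻¹ * normConj S (An S n) g u) = ⁅(iAn S n u)⁻¹, gs⁆ := by
      refine Subtype.ext ?_
      show (u : Ω)⁻¹ * ((g : Ω) * u * (g : Ω)⁻¹) = (u : Ω)⁻¹ * g * (u : Ω)⁻¹⁻¹ * (g : Ω)⁻¹
      group
    rw [mem_Kn, e]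
    exact commutator_mem_commutator (inv_mem hu) (mem_top gs)
  have hAut : autInducedBy S (An S n) ≤ U := by
    intro β hβ
    refine ⟨autInducedBy_le_autGroup F le_rfl hAS hβ, ?_⟩
    obtain ⟨g, rfl⟩ := (range_normConj S (An S n)).ge hβ
    exact hnc g
  have hUeq : U = autInducedBy S (An S n) :=
    ((isFullyAutomized_iff.1 (fullyAutomized_of_fullyNormalized hS hF fullyNormalized_An)).2).2.2 U hAut
      (fun β hβ => hβ.1) hUp
  -- the involution normalizes the stabilizer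
  have hαK : ∀ i, n - 4 ≤ i → i ≤ n - 1 → ∀ u ∈ Kn S n i, α u ∈ Kn S n i := by
    intro i hi hin u hu
    rcases (show i = n - 4 ∨ i = n - 3 ∨ i = n - 2 ∨ i = n - 1 by omega) with rfl | rfl | rfl | rfl
    · exact iAn_mem _
    · have := mul_mem (hA u) hu
      rwa [inv_mul_cancel_right] at this
    · rw [hbot u hu]; exact zpow_mem hu b
    · rw [hK1 u hu, map_one]; exact one_mem _
  have hext : ∀ g : Ω, ∀ hg : g ∈ normalizerIn S (An S n),
      α * normConj S (An S n) ⟨g, hg⟩ * α⁻¹ ∈ autInducedBy S (An S n) := by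
    intro g hg
    rw [← hUeq]
    refine ⟨mul_mem (mul_mem hα (autInducedBy_le_autGroup F le_rfl hAS
      (range_normConj S _ ▸ ⟨_, rfl⟩))) (inv_mem hα), fun i hi hin u hu => ?_⟩
    have e : α⁻¹ u = α u := by
      conv_lhs => rw [← hα2 u]
      exact MulAut.inv_apply_self _ α (α u)
    have h := hαK (i + 1) (by omega) (by omega) _
      (hnc ⟨g, hg⟩ i hi hin (α u) (hαK i hi (by omega) u hu))
    rw [map_mul, map_inv, hα2] at h
    rw [MulAut.mul_apply, MulAut.mul_apply, e]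
    exact h
  obtain ⟨f, hf, hfα⟩ := FusionChain.exists_extension (receptive_of_fullyNormalized hS hF fullyNormalized_An) hα
    le_rfl hext
  have hfS : IsMap F S f := hf.mono (le_trans normalizerIn_An.ge le_sup_right)
  let σ : S ≃* S := MulEquiv.ofBijective
    (MonoidHom.mk' (fun x : S => (⟨f x, hfS.mem x.2⟩ : S)) fun a b => Subtype.ext (hfS.map_mul a.2 b.2))
    (Finite.injective_iff_bijective.1 fun a b h => Subtype.ext (hfS.inj a.2 b.2 (congrArg Subtype.val h)))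
  have hσ : ∀ u : An S n, σ (iAn S n u) = iAn S n (α u) := fun u => Subtype.ext (by
    show f (u : Ω) = ((α u : An S n) : Ω)
    rw [hfα _ u.2, autFn_apply α u.2])
  refine c.false_of_involution (by omega) hn5 σ hm hmb (fun x hx => ?_) (fun x hx => ?_) (fun x hx => ?_) hT
  · obtain ⟨u, rfl⟩ := exists_iAn hx
    rw [hσ, ← map_inv, ← map_mul]
    exact hA u
  · obtain ⟨u, rfl⟩ := exists_iAn (n := n) (Subgroup.lowerCentralSeries_antitone _ (by omega) hx)
    rw [hσ, ← map_zpow, ← map_inv, ← map_mul]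
    exact hmid u hx
  · obtain ⟨u, rfl⟩ := exists_iAn (n := n) (Subgroup.lowerCentralSeries_antitone _ (by omega) hx)
    rw [hσ, hbot u hx, map_zpow, mul_inv_cancel]
    exact one_mem _

/-- The data of a reflection of `An S n` with centre `z₁` and a fixed vector `e₁`. -/
structure Refl (α : MulAut (An S n)) (z₁ e₁ : An S n) : Prop where
  ne : z₁ ≠ 1
  invol : ∀ u, α (α u) = u
  inv : α z₁ = z₁⁻¹
  fix : α e₁ = e₁
  sub : ∀ u, α u * u⁻¹ ∈ zpowers z₁

theorem false_of_reflection (hp5 : 5 ≤ p) (hn5 : 5 ≤ n) (hS : IsPGroup p S) (hF : F.IsSaturated p) (c : Mc S p n)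
    {α : MulAut (An S n)} (hα : α ∈ F.autGroup (An S n)) {z₁ e₁ : An S n} (r : Refl α z₁ e₁)
    (h3 : z₁ ∈ Kn S n (n - 3)) (hgen : ∀ w ∈ Kn S n (n - 2), ∃ i j : ℤ, w = z₁ ^ i * e₁ ^ j)
    (hT : z₁ ∉ Kn S n (n - 2) → e₁ ∈ Kn S n (n - 3) → twoStep S (n - 4) ≠ twoStep S (n - 3)) : False := by
  have hAS : An S n ≤ S := An_le
  haveI := finite_of_le (S := S) hAS
  have hn := c.three_le
  have hinj : Function.Injective (iAn S n) := Subgroup.inclusion_injective _
  have hcomm : ∀ u v : An S n, Commute u v := fun u v => hinj (by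
    rw [map_mul, map_mul]; exact c.commute_of_mem_L hn5 (iAn_mem u) (iAn_mem v))
  have hexp : ∀ u : An S n, u ^ p = 1 := fun u =>
    hinj (by rw [map_pow, map_one]; exact c.pow_eq_one_of_mem_L hp5 hn5 (iAn_mem u))
  have hcardK : ∀ i, n - 4 ≤ i → Nat.card (Kn S n i) = p ^ (n - 1 - i) := by
    intro i hi
    rw [← c.card_L (by omega : 1 ≤ i)]
    refine Nat.card_congr (Equiv.ofBijective (fun u : Kn S n i => (⟨iAn S n u, u.2⟩ : L S i))
      ⟨fun u v e => Subtype.ext (hinj (congrArg Subtype.val e)), fun x => ?_⟩)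
    obtain ⟨u, hu⟩ := exists_iAn (n := n) (Subgroup.lowerCentralSeries_antitone _ hi x.2)
    exact ⟨⟨u, by rw [mem_Kn, hu]; exact x.2⟩, Subtype.ext hu⟩
  have h2c : Nat.card (Kn S n (n - 2)) = p := by
    rw [hcardK _ (by omega), show n - 1 - (n - 2) = 1 by omega, pow_one]
  have h2le : Kn S n (n - 2) ≤ Kn S n (n - 3) :=
    Subgroup.comap_mono (Subgroup.lowerCentralSeries_antitone _ (by omega))
  have hAp : IsPGroup p (An S n) := hS.to_le hAS
  -- the line of `z₁` is the bottom layer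
  have case1 : ∀ {α : MulAut (An S n)}, α ∈ F.autGroup (An S n) → (∀ u, α (α u) = u) →
      (∀ u, α u * u⁻¹ ∈ Kn S n (n - 2)) → (∀ z ∈ Kn S n (n - 2), α z = z⁻¹) → False := by
    intro α hα h2 hsub hinv
    refine false_of_flag hp5 hn5 hS hF c hα h2 (m := 1) (b := -1) (Or.inl rfl) (by norm_num)
      (fun u => h2le (hsub u)) (fun w _ => by rw [zpow_one]; exact hsub w)
      (fun z hz => by rw [zpow_neg_one]; exact hinv z hz) (fun h => by norm_num at h)
  have hzp : ∀ w ∈ zpowers z₁, α w = w⁻¹ := by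
    rintro _ ⟨i, rfl⟩
    show α (z₁ ^ i) = (z₁ ^ i)⁻¹
    rw [map_zpow, r.inv, inv_zpow]
  have hz₁ := r.ne
  by_cases hZ : z₁ ∈ Kn S n (n - 2)
  · have heq : zpowers z₁ = Kn S n (n - 2) := by
      refine Subgroup.eq_of_le_of_card_ge (zpowers_le.mpr hZ) ?_
      rw [h2c, Nat.card_zpowers, orderOf_eq_prime (hexp z₁) hz₁]
    exact case1 hα r.invol (fun u => heq ▸ r.sub u) fun z hz => hzp z (heq.symm ▸ hz)
  obtain ⟨z₀, hz₀, hz₀1⟩ : ∃ z₀ ∈ Kn S n (n - 2), z₀ ≠ 1 := by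
    by_contra h
    push Not at h
    have : Kn S n (n - 2) = ⊥ := (Subgroup.eq_bot_iff_forall _).2 h
    rw [this, card_bot] at h2c
    exact hp.out.ne_one h2c.symm
  have hgen2 : zpowers z₀ = Kn S n (n - 2) := by
    refine Subgroup.eq_of_le_of_card_ge (zpowers_le.mpr hz₀) ?_
    rw [h2c, Nat.card_zpowers, orderOf_eq_prime (hexp z₀) hz₀1]
  obtain ⟨i, j, e0⟩ := hgen z₀ hz₀
  have hαz0 : α z₀ = z₁ ^ (-i) * e₁ ^ j := by
    rw [e0, map_mul, map_zpow, map_zpow, r.inv, r.fix, inv_zpow, zpow_neg]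
  have hj : ¬ (p : ℤ) ∣ j := by
    rintro ⟨k, rfl⟩
    have hej : e₁ ^ ((p : ℤ) * k) = 1 := by rw [zpow_mul, zpow_natCast, hexp, one_zpow]
    rw [hej, mul_one] at e0
    have hle : Kn S n (n - 2) ≤ zpowers z₁ := hgen2 ▸ zpowers_le.mpr (e0 ▸ zpow_mem (mem_zpowers z₁) i)
    refine hZ ((Subgroup.eq_of_le_of_card_ge hle ?_).ge (mem_zpowers z₁))
    rw [h2c, Nat.card_zpowers, orderOf_eq_prime (hexp z₁) hz₁]
  have he₁ : e₁ ∈ Kn S n (n - 3) := by
    have hK : e₁ ^ j ∈ Kn S n (n - 3) := by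
      have := mul_mem (inv_mem (zpow_mem h3 i)) (h2le hz₀)
      rwa [e0, inv_mul_cancel_left] at this
    obtain ⟨a, b, hab⟩ : ∃ a b : ℤ, j * a + p * b = 1 := by
      have hc : IsCoprime j (p : ℤ) := ((Nat.prime_iff_prime_int.1 hp.out).coprime_iff_not_dvd.2 hj).symm
      obtain ⟨a, b, h⟩ := hc
      exact ⟨a, b, by rw [← h]; ring⟩
    have := zpow_mem hK a
    rwa [← zpow_mul, show j * a = 1 - p * b by omega, zpow_sub, zpow_mul, zpow_natCast, hexp, one_zpow, inv_one,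
      mul_one, zpow_one] at this
  by_cases hi : (p : ℤ) ∣ i
  · -- `α` fixes the bottom layer and inverts the middle one
    obtain ⟨k, rfl⟩ := hi
    have hzi : z₁ ^ ((p : ℤ) * k) = 1 := by rw [zpow_mul, zpow_natCast, hexp, one_zpow]
    have hfix : α z₀ = z₀ := by
      rw [hαz0, zpow_neg, hzi, inv_one, one_mul]
      rw [hzi, one_mul] at e0
      exact e0.symm
    refine false_of_flag hp5 hn5 hS hF c hα r.invol (m := -1) (b := 1) (Or.inr rfl) (by norm_num)
      (fun u => (zpowers_le.mpr h3) (r.sub u)) (fun w hw => ?_) (fun z hz => ?_) (fun _ => hT hZ he₁)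
    · rw [zpow_neg_one, inv_inv]
      -- `w = z₁ ^ s * z₀ ^ t`
      have hlt : Kn S n (n - 2) < Kn S n (n - 2) ⊔ zpowers z₁ := left_lt_sup.2 fun h => hZ (h (mem_zpowers z₁))
      have h3eq : Kn S n (n - 2) ⊔ zpowers z₁ = Kn S n (n - 3) := by
        refine PGroup.eq_of_le_of_card_le (sup_le h2le (zpowers_le.mpr h3)) ?_
        have := PGroup.mul_card_le_of_lt hAp hlt
        rw [h2c] at this
        rwa [hcardK _ (by omega), show n - 1 - (n - 3) = 2 by omega, pow_two]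
      haveI : (Kn S n (n - 2)).Normal := inferInstanceAs ((L S (n - 2)).comap (iAn S n)).Normal
      rw [← h3eq, ← SetLike.mem_coe, Subgroup.normal_mul] at hw
      obtain ⟨y, hy, _, ⟨s, rfl⟩, rfl⟩ := Set.mem_mul.mp hw
      have hy' : α y = y := by
        obtain ⟨t, rfl⟩ := mem_zpowers_iff.1 (hgen2.ge hy)
        rw [map_zpow, hfix]
      show α (y * z₁ ^ s) * (y * z₁ ^ s) ∈ _
      rw [map_mul, hy', hzp _ (zpow_mem (mem_zpowers z₁) s),
        (hcomm y ((z₁ ^ s)⁻¹)).eq, mul_assoc, ← mul_assoc y y, (hcomm (y * y) (z₁ ^ s)).eq, inv_mul_cancel_left]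
      exact mul_mem hy hy
    · obtain ⟨t, rfl⟩ := mem_zpowers_iff.1 (hgen2.ge hz)
      rw [zpow_one, map_zpow, hfix]
  -- a conjugate of the reflection moves the bottom layer onto the line of `z₁`
  obtain ⟨s, hs⟩ := c.exists_good
  let sA : normalizerIn S (An S n) := ⟨(s : Ω), normalizerIn_An.ge s.2⟩
  set γ := normConj S (An S n) sA with hγ
  have hγG : γ ∈ F.autGroup (An S n) := (Resist.normConj_mem F hAS sA).2
  have hιγ : ∀ u, iAn S n (γ u) = s * iAn S n u * s⁻¹ := fun u => Subtype.ext rfl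
  have hγ0 : ∀ z ∈ Kn S n (n - 2), γ z = z := fun z hz => hinj (by
    rw [hιγ, (c.commute_of_mem hz s).eq, mul_inv_cancel_right])
  have hγ1 : γ z₁ * z₁⁻¹ ∈ Kn S n (n - 2) := by
    rw [mem_Kn, map_mul, map_inv, hιγ]
    show ⁅s, iAn S n z₁⁆ ∈ _
    exact comm_L_mem (by omega) (mem_L_zero s) h3
  obtain ⟨v, hv⟩ := mem_zpowers_iff.1 (hgen2.ge hγ1)
  have hv0 : ¬ (p : ℤ) ∣ v := by
    rintro ⟨k, rfl⟩
    rw [zpow_mul, zpow_natCast, hexp, one_zpow] at hv
    refine c.not_mem_twoStep hs (by omega : 1 ≤ n - 3) le_rfl (c.mem_twoStep_of (by omega) h3 ?_ ?_)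
    · rw [show n - 3 + 1 = n - 2 by omega]; exact hZ
    · show ⁅s, iAn S n z₁⁆ ∈ _
      have := congrArg (iAn S n) hv
      rw [map_one, map_mul, map_inv, hιγ] at this
      rw [commutatorElement_def, ← this]
      exact one_mem _
  have hγpow : ∀ k : ℕ, (γ ^ k) z₁ = z₁ * z₀ ^ (v * k) := by
    intro k
    induction k with
    | zero => simp
    | succ k ih =>
      rw [pow_succ', MulAut.mul_apply, ih, map_mul, map_zpow, hγ0 z₀ hz₀,
        show γ z₁ = z₁ * z₀ ^ v by rw [hv, (hcomm z₁ _).eq, inv_mul_cancel_right], mul_assoc, ← zpow_add]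
      congr 2
      push_cast
      ring
  -- solve `2 i v k ≡ -1`
  obtain ⟨k, hk⟩ : ∃ k : ℕ, (p : ℤ) ∣ 2 * i * v * k + 1 := by
    have hne : ((2 * i * v : ℤ) : ZMod p) ≠ 0 := by
      rw [Ne, ZMod.intCast_zmod_eq_zero_iff_dvd]
      intro h
      rcases (Nat.prime_iff_prime_int.1 hp.out).dvd_or_dvd h with h | h
      · rcases (Nat.prime_iff_prime_int.1 hp.out).dvd_or_dvd h with h | h
        · have := Int.le_of_dvd (by norm_num) h; omega
        · exact hi h
      · exact hv0 h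
    refine ⟨(-((2 * i * v : ℤ) : ZMod p)⁻¹).val, ?_⟩
    rw [← ZMod.intCast_zmod_eq_zero_iff_dvd]
    push_cast
    rw [ZMod.natCast_zmod_val, mul_neg]
    push_cast at hne
    rw [mul_inv_cancel₀ hne, neg_add_cancel]
  set q : ℤ := v * k with hq
  have hzero : ∀ (x : An S n) {a : ℤ}, (p : ℤ) ∣ a → x ^ a = 1 := by
    rintro x a ⟨b, rfl⟩
    rw [zpow_mul, zpow_natCast, hexp, one_zpow]
  -- `δ = α γ ^ k` maps `z₁` into the bottom layer
  set δ := α * γ ^ k with hδ
  have hδG : δ ∈ F.autGroup (An S n) := mul_mem hα (pow_mem hγG k)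
  have hδz : δ z₁ = z₀ ^ q := by
    rw [hδ, MulAut.mul_apply, hγpow, ← hq, map_mul, map_zpow, r.inv, hαz0, (hcomm (z₁ ^ (-i)) (e₁ ^ j)).mul_zpow,
      e0, (hcomm (z₁ ^ i) (e₁ ^ j)).mul_zpow, ← mul_assoc, ← zpow_mul, ← zpow_mul]
    congr 1
    rw [← zpow_neg_one z₁, ← zpow_add, eq_comm, ← mul_inv_eq_one, ← zpow_neg, ← zpow_mul, ← zpow_add]
    refine hzero z₁ ?_
    have : i * q + -(-1 + -i * q) = 2 * i * v * k + 1 := by rw [hq]; ring
    rw [this]
    exact hk
  have hq0 : δ z₁ ≠ 1 := fun h => hz₁ (δ.injective (by rw [h, map_one]))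
  have hline : zpowers (δ z₁) = Kn S n (n - 2) := by
    refine Subgroup.eq_of_le_of_card_ge (zpowers_le.mpr (hδz ▸ zpow_mem hz₀ q)) ?_
    rw [h2c, Nat.card_zpowers, orderOf_eq_prime (hexp _) hq0]
  refine case1 (α := δ * α * δ⁻¹) (mul_mem (mul_mem hδG hα) (inv_mem hδG)) (fun u => ?_) (fun u => ?_) (fun z hz => ?_)
  · simp only [MulAut.mul_apply, MulAut.inv_apply_self, r.invol, MulAut.apply_inv_self]
  · obtain ⟨v', rfl⟩ := δ.surjective u
    rw [MulAut.mul_apply, MulAut.mul_apply, MulAut.inv_apply_self, ← map_inv, ← map_mul]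
    obtain ⟨t, ht⟩ := r.sub v'
    rw [← hline]
    exact ⟨t, by rw [← ht]; exact (map_zpow δ z₁ t).symm⟩
  · obtain ⟨t, rfl⟩ := mem_zpowers_iff.1 (hline.ge hz)
    rw [← map_zpow, MulAut.mul_apply, MulAut.mul_apply, MulAut.inv_apply_self, hzp _ (zpow_mem (mem_zpowers z₁) t),
      map_inv]

end Cfsg.Agent.MaxClassPower
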