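import Cfsg.Agent.Lib.MaxClass.Degree

/-!
# Small subgroups of p-groups of maximal class

`Mc.L_le_normalizer` : `L (n - 4)` normalizes the self-centralizing elementary abelian subgroups of order `p ^ 3`;
`Mc.false_of_involution` : an automorphism of order two cannot act on `L (n - 4)` as a reflection.
-/

set_option autoImplicit false
set_option linter.unusedSectionVars false

open Subgroup
open scoped commutatorElement Pointwise

universe u

namespace Cfsg.Agent.MaxClassPower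

open PearlRank

variable {X : Type u} [Group X]

theorem map_L_mem (σ : X ≃* X) {i : ℕ} {x : X} (hx : x ∈ L X i) : σ x ∈ L X i := by
  have h : (L X i).map σ.toMonoidHom = L X i := by
    show ((⊤ : Subgroup X).lowerCentralSeries i).map _ = _
    rw [Subgroup.map_lowerCentralSeries, map_top_of_surjective _ σ.surjective]
  rw [← h]; exact mem_map_of_mem _ hx

theorem map_twoStep_mem (σ : X ≃* X) {i : ℕ} {x : X} (hx : x ∈ twoStep X i) : σ x ∈ twoStep X i := by
  rw [mem_twoStep]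
  intro u hu
  have h := map_L_mem σ (mem_twoStep.mp hx _ (map_L_mem σ.symm hu))
  rwa [map_commutatorElement, σ.apply_symm_apply] at h

/-- The commutator pairing `X × Lₖ → Lₖ₊₁/Lₖ₊₂` in the first argument. -/
def pairL (k : ℕ) (u : L X k) : X →* X ⧸ L X (k + 2) :=
  MonoidHom.mk' (fun g => QuotientGroup.mk' (L X (k + 2)) ⁅g, (u : X)⁆) fun a b => by
    rw [commutatorElement_mul_left_eq_conj_mul, map_mul]
    have hb : ⁅b, (u : X)⁆ ∈ L X (k + 1) := comm_L_mem (by omega) (mem_L_zero b) u.2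
    have hcb : ∀ g : X, Commute (QuotientGroup.mk' (L X (k + 2)) g) (QuotientGroup.mk' (L X (k + 2)) ⁅b, (u : X)⁆) :=
      fun g => by
        rw [← commutatorElement_eq_one_iff_commute, ← map_commutatorElement]
        exact (QuotientGroup.eq_one_iff _).2 (comm_L_mem (by omega) (mem_L_zero g) hb)
    rw [map_mul, map_mul, map_inv, (hcb a).eq, mul_inv_cancel_right]
    exact ((hcb ⁅a, (u : X)⁆).eq).symm

theorem pairL_apply (k : ℕ) (u : L X k) (g : X) :
    pairL k u g = QuotientGroup.mk' (L X (k + 2)) ⁅g, (u : X)⁆ := rfl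

/-- The commutator pairing in the second argument. -/
def pairR (k : ℕ) (g : X) : L X k →* X ⧸ L X (k + 2) :=
  MonoidHom.mk' (fun u => QuotientGroup.mk' (L X (k + 2)) ⁅g, (u : X)⁆) fun a b => by
    have hb : ⁅g, (b : X)⁆ ∈ L X (k + 1) := comm_L_mem (by omega) (mem_L_zero g) b.2
    have hcb : Commute (QuotientGroup.mk' (L X (k + 2)) (a : X)) (QuotientGroup.mk' (L X (k + 2)) ⁅g, (b : X)⁆) := by
      rw [← commutatorElement_eq_one_iff_commute, ← map_commutatorElement]
      exact (QuotientGroup.eq_one_iff _).2 (comm_L_mem (by omega) (mem_L_zero _) hb)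
    rw [Subgroup.coe_mul, commutatorElement_mul_right_eq_mul_conj, map_mul, map_mul, map_mul, map_inv,
      mul_assoc (QuotientGroup.mk' (L X (k + 2)) ⁅g, (a : X)⁆), hcb.eq, ← mul_assoc, mul_inv_cancel_right]

theorem pairR_apply (k : ℕ) (g : X) (u : L X k) :
    pairR k g u = QuotientGroup.mk' (L X (k + 2)) ⁅g, (u : X)⁆ := rfl

/-- Signs multiply in commutators. -/
theorem map_comm_sign (σ : X ≃* X) {k : ℕ} {g u : X} (hu : u ∈ L X k) {a e : ℤ}
    (h1 : ⁅σ g * (g ^ a)⁻¹, u⁆ ∈ L X (k + 2)) (h2 : ⁅σ g, σ u * (u ^ e)⁻¹⁆ ∈ L X (k + 2)) :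
    QuotientGroup.mk' (L X (k + 2)) (σ ⁅g, u⁆) = (QuotientGroup.mk' (L X (k + 2)) ⁅g, u⁆) ^ (a * e) := by
  let uu : L X k := ⟨u, hu⟩
  let v : L X k := ⟨σ u, map_L_mem σ hu⟩
  have e1 : pairR k (σ g) v = pairR k (σ g) uu ^ e := by
    have h : pairR k (σ g) (v * (uu ^ e)⁻¹) = 1 := (QuotientGroup.eq_one_iff _).2 (by
      show ⁅σ g, ((v * (uu ^ e)⁻¹ : L X k) : X)⁆ ∈ _
      simpa [v, uu] using h2)
    rwa [map_mul, map_inv, map_zpow, mul_inv_eq_one] at h
  have e2 : pairL k uu (σ g) = pairL k uu g ^ a := by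
    have h : pairL k uu (σ g * (g ^ a)⁻¹) = 1 := (QuotientGroup.eq_one_iff _).2 h1
    rwa [map_mul, map_inv, map_zpow, mul_inv_eq_one] at h
  rw [map_commutatorElement, zpow_mul]
  show pairR k (σ g) v = _
  rw [e1]
  show pairL k uu (σ g) ^ e = _
  rw [e2]
  rfl

variable [Finite X] {p n : ℕ} [hp : Fact p.Prime]

theorem mem_of_sq_mem {G : Type*} [Group G] (hG : IsPGroup p G) (hp2 : p ≠ 2) {H : Subgroup G} {y : G}
    (h : y * y ∈ H) : y ∈ H := by
  obtain ⟨k, hk⟩ := hG y
  obtain ⟨m, hm⟩ := (hp.out.odd_of_ne_two hp2).pow (n := k)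
  have e : y = (y * y) ^ (m + 1) := by
    rw [← pow_two, ← pow_mul, show 2 * (m + 1) = p ^ k + 1 by omega, pow_succ, hk, one_mul]
  exact e ▸ pow_mem h _

namespace Mc

variable (c : Mc X p n)

include c

theorem sign_of_gen (σ : X ≃* X) {k : ℕ} (hk : 1 ≤ k) {w : X} (hw : w ∈ L X k) (hw' : w ∉ L X (k + 1)) {e : ℤ}
    (h : QuotientGroup.mk' (L X (k + 1)) (σ w) = (QuotientGroup.mk' (L X (k + 1)) w) ^ e) :
    ∀ y ∈ L X k, σ y * (y ^ e)⁻¹ ∈ L X (k + 1) := by
  intro y hy
  rw [← c.gen_L hk hw hw', ← SetLike.mem_coe, Subgroup.normal_mul] at hy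
  obtain ⟨z, hz, _, ⟨i, rfl⟩, rfl⟩ := Set.mem_mul.mp hy
  rw [← QuotientGroup.eq_one_iff]
  show QuotientGroup.mk' (L X (k + 1)) (σ (z * w ^ i) * ((z * w ^ i) ^ e)⁻¹) = 1
  simp only [map_mul, map_zpow, map_inv]
  rw [h, show QuotientGroup.mk' (L X (k + 1)) (σ z) = 1 from (QuotientGroup.eq_one_iff _).2 (map_L_mem σ hz),
    show QuotientGroup.mk' (L X (k + 1)) z = 1 from (QuotientGroup.eq_one_iff _).2 hz, one_mul, one_mul,
    ← zpow_mul, ← zpow_mul, mul_comm, mul_inv_cancel]

/-- The sign on `X` modulo a two-step centralizer, from two layers. -/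
theorem sign_top (σ : X ≃* X) {k : ℕ} (hk : 1 ≤ k) {u : X} (hu : u ∈ L X k) (hu' : u ∉ L X (k + 1)) {d e : ℤ}
    (he : e * e = 1) (h1 : σ u * (u ^ e)⁻¹ ∈ L X (k + 1)) (h2 : ∀ w ∈ L X (k + 1), σ w * (w ^ d)⁻¹ ∈ L X (k + 2))
    (g : X) : σ g * (g ^ (d * e))⁻¹ ∈ twoStep X k := by
  let π := QuotientGroup.mk' (L X (k + 2))
  let uu : L X k := ⟨u, hu⟩
  have e1 : π (σ ⁅g, u⁆) = π ⁅g, u⁆ ^ d := by
    have h := h2 _ (comm_L_mem (by omega) (mem_L_zero g) hu)
    rw [← QuotientGroup.eq_one_iff] at h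
    change π _ = 1 at h
    rwa [map_mul, map_inv, map_zpow, mul_inv_eq_one] at h
  have e2 : π (σ ⁅g, u⁆) = pairL k uu (σ g) ^ e := by
    have h : pairR k (σ g) (⟨σ u, map_L_mem σ hu⟩ * (uu ^ e)⁻¹) = 1 := (QuotientGroup.eq_one_iff _).2 (by
      show ⁅σ g, ((⟨σ u, map_L_mem σ hu⟩ * (uu ^ e)⁻¹ : L X k) : X)⁆ ∈ _
      simpa [uu] using comm_L_mem (k := k + 2) (by omega) (mem_L_zero (σ g)) h1)
    rw [map_mul, map_inv, map_zpow, mul_inv_eq_one] at h
    rw [map_commutatorElement]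
    exact h
  refine c.mem_twoStep_of hk hu hu' ((QuotientGroup.eq_one_iff _).1 ?_)
  show pairL k uu _ = 1
  rw [map_mul, map_inv, map_zpow, mul_inv_eq_one]
  calc pairL k uu (σ g) = (pairL k uu (σ g) ^ e) ^ e := by rw [← zpow_mul, he, zpow_one]
    _ = (π ⁅g, u⁆ ^ d) ^ e := by rw [← e2, e1]
    _ = pairL k uu g ^ (d * e) := by rw [← zpow_mul]; rfl

/-- The sign of the next layer. -/
theorem sign_layer (σ : X ≃* X) {k : ℕ} (hk : 1 ≤ k) (hkn : k ≤ n - 3) {g : X} (hg : g ∉ twoStep X k) {a e : ℤ}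
    (h1 : σ g * (g ^ a)⁻¹ ∈ twoStep X k) (h2 : ∀ u ∈ L X k, σ u * (u ^ e)⁻¹ ∈ L X (k + 1)) :
    ∀ w ∈ L X (k + 1), σ w * (w ^ (a * e))⁻¹ ∈ L X (k + 2) := by
  have hn := c.three_le
  obtain ⟨u, hu, hu'⟩ := SetLike.not_le_iff_exists.mp (c.L_lt hk (by omega))
  refine c.sign_of_gen σ (by omega) (comm_L_mem (by omega) (mem_L_zero g) hu)
    (fun h => hg (c.mem_twoStep_of hk hu hu' h)) ?_
  exact map_comm_sign σ hu (mem_twoStep.mp h1 u hu) (comm_L_mem (by omega) (mem_L_zero _) (h2 u hu))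

theorem not_comm_mem_L_two {i : ℕ} (hi : 1 ≤ i) (hin : i ≤ n - 3) {g h : X} (hg : g ∉ twoStep X i)
    (hh : h ∈ twoStep X i) (hh1 : h ∉ L X 1) : ⁅g, h⁆ ∉ L X 2 := by
  intro hgh
  have hn := c.three_le
  refine c.L_lt le_rfl (by omega) ((c.L_one_le_comm hi hin).trans ?_)
  let π := QuotientGroup.mk' (L X 2)
  have hT : ∀ a ∈ L X 1, ∀ x : X, Commute (π a) (π x) := fun a ha x => by
    rw [← commutatorElement_eq_one_iff_commute, ← map_commutatorElement]
    exact (QuotientGroup.eq_one_iff _).2 (commutator_mem_commutator ha (mem_top x))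
  have htop : twoStep X i ⊔ zpowers g = ⊤ := by
    refine PGroup.eq_of_le_of_card_le le_top ?_
    have := PGroup.mul_card_le_of_lt c.pGroup
      (left_lt_sup.2 fun h => hg (h (mem_zpowers g)) : twoStep X i < twoStep X i ⊔ zpowers g)
    rwa [c.card_twoStep hi hin, ← pow_succ', show n - 1 + 1 = n by omega, ← c.card,
      ← card_top (G := X)] at this
  have hgh' : Commute (π g) (π h) := by
    rw [← commutatorElement_eq_one_iff_commute, ← map_commutatorElement]
    exact (QuotientGroup.eq_one_iff _).2 hgh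
  have hh' : ∀ x : X, Commute (π h) (π x) := by
    intro x
    have hle : (⊤ : Subgroup X) ≤ (centralizer {π h}).comap π := by
      refine htop.ge.trans ?_
      rw [← c.gen_twoStep hi hin hh hh1]
      refine sup_le (sup_le (fun a ha => ?_) (zpowers_le.mpr ?_)) (zpowers_le.mpr ?_) <;>
        rw [mem_comap, mem_centralizer_singleton_iff]
      · exact (hT a ha h).eq
      · exact hgh'.eq
    exact (mem_centralizer_singleton_iff.mp (hle (mem_top x))).symm
  have hMc : twoStep X i ≤ (center (X ⧸ L X 2)).comap π := by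
    rw [← c.gen_twoStep hi hin hh hh1]
    refine sup_le (fun a ha => ?_) (zpowers_le.mpr ?_) <;>
      · rw [mem_comap, mem_center_iff]
        intro q
        obtain ⟨x, rfl⟩ := QuotientGroup.mk'_surjective _ q
        first
          | exact ((hT a ha x).eq).symm
          | exact ((hh' x).eq).symm
  rw [commutator_le]
  intro a ha x _
  rw [← QuotientGroup.eq_one_iff]
  show π ⁅a, x⁆ = 1
  rw [map_commutatorElement, commutatorElement_eq_one_iff_mul_comm]
  exact (mem_center_iff.mp (hMc ha) (π x)).symm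

/-- No automorphism acts as a reflection on `L (n - 4)`, compatibly with the flag. -/
theorem false_of_involution (hp2 : p ≠ 2) (hn5 : 5 ≤ n) (σ : X ≃* X) {m b : ℤ} (hm : m = 1 ∨ m = -1)
    (hmb : m * b = -1) (hA : ∀ u ∈ L X (n - 4), σ u * u⁻¹ ∈ L X (n - 3))
    (hmid : ∀ w ∈ L X (n - 3), σ w * (w ^ m)⁻¹ ∈ L X (n - 2))
    (hbot : ∀ z ∈ L X (n - 2), σ z * (z ^ b)⁻¹ ∈ L X (n - 1))
    (hT : m = -1 → twoStep X (n - 4) ≠ twoStep X (n - 3)) : False := by
  have hmm : m * m = 1 := by rcases hm with rfl | rfl <;> norm_num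
  obtain ⟨u, hu, hu'⟩ := SetLike.not_le_iff_exists.mp (c.L_lt (i := n - 4) (by omega) (by omega))
  obtain ⟨w, hw, hw'⟩ := SetLike.not_le_iff_exists.mp (c.L_lt (i := n - 3) (by omega) (by omega))
  rw [show n - 4 + 1 = n - 3 by omega] at hu'
  rw [show n - 3 + 1 = n - 2 by omega] at hw'
  have h1 : ∀ g, σ g * (g ^ m)⁻¹ ∈ twoStep X (n - 4) := fun g => by
    have := c.sign_top σ (d := m) (e := 1) (by omega : 1 ≤ n - 4) hu
      (by rwa [show n - 4 + 1 = n - 3 by omega]) rfl
      (by rw [zpow_one, show n - 4 + 1 = n - 3 by omega]; exact hA u hu)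
      (by rw [show n - 4 + 1 = n - 3 by omega, show n - 4 + 2 = n - 2 by omega]; exact hmid) g
    rwa [mul_one] at this
  have h2 : ∀ g, σ g * g ∈ twoStep X (n - 3) := fun g => by
    have := c.sign_top σ (d := b) (e := m) (by omega : 1 ≤ n - 3) hw
      (by rwa [show n - 3 + 1 = n - 2 by omega]) hmm
      (by rw [show n - 3 + 1 = n - 2 by omega]; exact hmid w hw)
      (by rw [show n - 3 + 1 = n - 2 by omega, show n - 3 + 2 = n - 1 by omega]; exact hbot) g
    rwa [mul_comm b, hmb, zpow_neg_one, inv_inv] at this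
  by_cases hTM : twoStep X (n - 4) = twoStep X (n - 3)
  · rcases hm with rfl | rfl
    · refine c.twoStep_ne_top (by omega : 1 ≤ n - 3) le_rfl (eq_top_iff.2 fun g _ => mem_of_sq_mem c.pGroup hp2 ?_)
      have ha : σ g * g⁻¹ ∈ twoStep X (n - 3) := by simpa [hTM] using h1 g
      have hb := mul_mem (inv_mem ha) (h2 g)
      rwa [mul_inv_rev, inv_inv, mul_assoc, inv_mul_cancel_left] at hb
    · exact hT rfl hTM
  have hev : Even n := by
    rcases Nat.even_or_odd n with h | h
    · exact h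
    · exact absurd ((c.twoStep_const _ (by omega) (Or.inl le_rfl)).trans
        (c.twoStep_const _ (by omega) (Or.inr ⟨h, rfl⟩)).symm) hTM
  have hinf : ∀ y, y ∈ twoStep X (n - 4) → y ∈ twoStep X (n - 3) → y ∈ L X 1 := fun y h h' =>
    by_contra fun hy => hTM (c.twoStep_eq_of_mem (by omega) (by omega) (by omega) le_rfl h h' hy)
  obtain ⟨g, hg, hg1⟩ := c.exists_mem_twoStep (i := n - 3) (by omega) le_rfl
  obtain ⟨h, hh, hh1⟩ := c.exists_mem_twoStep (i := n - 4) (by omega) (by omega)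
  have hgT : g ∉ twoStep X (n - 4) := fun h' => hg1 (hinf g h' hg)
  have hga : σ g * (g ^ m)⁻¹ ∈ L X 1 :=
    hinf _ (h1 g) (mul_mem (map_twoStep_mem σ hg) (inv_mem (zpow_mem hg m)))
  have hha : σ h * (h ^ (-1 : ℤ))⁻¹ ∈ L X 1 := by
    rw [zpow_neg_one, inv_inv]
    exact hinf _ (mul_mem (map_twoStep_mem σ hh) hh) (h2 h)
  have hlayer : ∀ k, 1 ≤ k → k ≤ n - 4 → ∀ y ∈ L X k, σ y * (y ^ (-(m ^ k)))⁻¹ ∈ L X (k + 1) := by
    intro k hk
    induction k, hk using Nat.le_induction with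
    | base =>
      intro _
      have := c.sign_of_gen σ le_rfl (comm_L_mem (by omega) (mem_L_zero g) (mem_L_zero h))
        (c.not_comm_mem_L_two (by omega) (by omega) hgT hh hh1)
        (map_comm_sign σ (mem_L_zero h) (comm_L_mem (by omega) hga (mem_L_zero h))
          (comm_L_mem (by omega) (mem_L_zero (σ g)) hha))
      rwa [pow_one, show -m = m * -1 by ring]
    | succ k hk ih =>
      intro hkn
      have hTk : twoStep X k = twoStep X (n - 4) :=
        (c.twoStep_const k hk (Or.inl (by omega))).trans (c.twoStep_const _ (by omega) (Or.inl le_rfl)).symm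
      have := c.sign_layer σ hk (by omega) (a := m) (hTk ▸ hgT) (hTk ▸ h1 g) (ih (by omega))
      rwa [show m * -(m ^ k) = -(m ^ (k + 1)) by ring] at this
  have hk := hlayer (n - 4) (by omega) le_rfl u hu
  rw [show n - 4 + 1 = n - 3 by omega] at hk
  have hev' : m ^ (n - 4) = 1 := by
    obtain ⟨r, hr⟩ := hev
    rw [show n - 4 = 2 * (r - 2) by omega, pow_mul, pow_two, hmm, one_pow]
  rw [hev', zpow_neg_one, inv_inv] at hk
  refine hu' (mem_of_sq_mem c.pGroup hp2 ?_)
  have := mul_mem (inv_mem (hA u hu)) hk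
  rwa [mul_inv_rev, inv_inv, mul_assoc, inv_mul_cancel_left] at this

theorem commute_of_mem_L (hn5 : 5 ≤ n) {u v : X} (hu : u ∈ L X (n - 4)) (hv : v ∈ L X (n - 4)) : Commute u v := by
  obtain ⟨w, hw, hw'⟩ := SetLike.not_le_iff_exists.mp (c.L_lt (i := n - 4) (by omega) (by omega))
  have hle : ∀ y ∈ L X (n - 4), ∀ z ∈ L X (n - 4 + 1), Commute y z := fun y hy z hz => by
    rw [← commutatorElement_eq_one_iff_commute]
    have h := comm_L_mem (k := n - 1) (by omega) hy hz
    rwa [c.L_bot le_rfl, mem_bot] at h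
  have hw0 : L X (n - 4) ≤ centralizer ({w} : Set X) := by
    rw [← c.gen_L (by omega) hw hw']
    refine sup_le (fun z hz => ?_) (zpowers_le.mpr ?_) <;> rw [mem_centralizer_singleton_iff]
    exact ((hle w hw z hz).eq).symm
  have hu0 : L X (n - 4) ≤ centralizer ({u} : Set X) := by
    rw [← c.gen_L (by omega) hw hw']
    refine sup_le (fun z hz => ?_) (zpowers_le.mpr ?_) <;> rw [mem_centralizer_singleton_iff]
    · exact ((hle u hu z hz).eq).symm
    · exact (mem_centralizer_singleton_iff.mp (hw0 hu)).symm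
  exact (mem_centralizer_singleton_iff.mp (hu0 hv)).symm

theorem pow_eq_one_of_mem_L (hp5 : 5 ≤ p) (hn5 : 5 ≤ n) {u : X} (hu : u ∈ L X (n - 4)) : u ^ p = 1 := by
  obtain ⟨s, hs⟩ := c.exists_good
  have h : u ^ p ∈ L X (n - 4 + p - 1) := hs.pow_mem (by omega) u hu
  rwa [c.L_bot (by omega), mem_bot] at h

/-- `L (n - 4)` normalizes a self-centralizing abelian subgroup of order `p ^ 3`. -/
theorem L_le_normalizer (hn5 : 5 ≤ n) {E : Subgroup X} (hE : Nat.card E = p ^ 3)
    (hab : ∀ a ∈ E, ∀ b ∈ E, Commute a b) (hC : centralizer (E : Set X) ≤ E) :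
    L X (n - 4) ≤ normalizer (E : Set X) := by
  have hn := c.three_le
  have hZ : L X (n - 2) ≤ E := fun z hz =>
    hC (mem_centralizer_iff.mpr fun e _ => (c.commute_of_mem hz e).eq)
  rw [le_normalizer_iff_commutator_le_right, commutator_le]
  intro a ha e he
  by_cases hL : L X (n - 3) ≤ E
  · exact hL (comm_L_mem (by omega) ha (mem_L_zero e))
  obtain ⟨w, hw, hwE⟩ := SetLike.not_le_iff_exists.mp hL
  obtain ⟨f, hf, hfw⟩ : ∃ f ∈ E, f * w ≠ w * f := by
    by_contra hh
    push Not at hh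
    exact hwE (hC (mem_centralizer_iff.mpr fun f hf => hh f hf))
  have hfT : f ∉ twoStep X (n - 3) := fun h => by
    have := mem_twoStep.mp h w hw
    rw [show n - 3 + 2 = n - 1 by omega, c.L_bot le_rfl, mem_bot, commutatorElement_eq_one_iff_mul_comm] at this
    exact hfw this
  have hf1 : f ∉ L X 1 := fun h => hfT (L_one_le_twoStep _ h)
  obtain ⟨i, hi, hin, hfi⟩ : ∃ i, 1 ≤ i ∧ i ≤ n - 3 ∧ f ∈ twoStep X i := by
    by_contra hh
    push Not at hh
    have h1 := c.card_centralizer hf1 hh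
    have h2 : Nat.card E ≤ Nat.card (centralizer ({f} : Set X)) := Subgroup.card_le_of_le fun y hy =>
      mem_centralizer_singleton_iff.mpr (hab y hy f hf).eq
    rw [h1, hE] at h2
    have := (Nat.pow_le_pow_iff_right hp.out.one_lt).mp h2
    omega
  have hi' : i ≤ n - 4 := by
    by_contra hlt
    exact hfT ((show i = n - 3 by omega) ▸ hfi)
  have hfT' : f ∈ twoStep X (n - 4) := by
    rwa [c.twoStep_const _ (by omega) (Or.inl le_rfl), ← c.twoStep_const i hi (Or.inl hi')]
  have hET : E ≤ twoStep X (n - 4) := by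
    intro y hy
    by_contra hyT
    have hlt : twoStep X (n - 4) < L X 1 ⊔ E := by
      refine lt_of_le_of_ne ?_ fun he => hyT (he ▸ mem_sup_right hy)
      rw [← c.gen_twoStep (by omega) (by omega) hfT' hf1]
      exact sup_le_sup_left (zpowers_le.mpr hf) _
    have h1 := PGroup.mul_card_le_of_lt c.pGroup hlt
    rw [c.card_twoStep (by omega) (by omega), ← pow_succ', show n - 1 + 1 = n by omega, ← c.card] at h1
    have htop : L X 1 ⊔ E = ⊤ := Subgroup.eq_top_of_card_eq _ (le_antisymm (Subgroup.card_le_card_group _) h1)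
    have hE' : E = ⊤ := PGroup.eq_top_of_sup_frattini (by
      refine top_le_iff.mp (htop.ge.trans (sup_le (le_trans ?_ le_sup_right) le_sup_left))
      rw [L, Subgroup.top_lowerCentralSeries_one]
      exact PGroup.commutator_le_frattini c.pGroup)
    rw [hE', card_top, c.card] at hE
    have := Nat.pow_right_injective hp.out.two_le hE
    omega
  rw [← commutatorElement_inv]
  have := mem_twoStep.mp (hET he) a ha
  exact inv_mem (hZ (by rwa [show n - 4 + 2 = n - 2 by omega] at this))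

end Mc

end Cfsg.Agent.MaxClassPower
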